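import Groth.Agent.WittModDesc.Glue
import Groth.Agent.Hensel.ProjectiveLift
import Groth.Agent.AzumayaX.Descent

/-!
# Descent of finite projective modules over truncated Witt vectors along faithfully flat maps
-/

universe u

set_option autoImplicit false

noncomputable section

namespace Groth.Agent.WittModDesc

open TensorProduct
open WittGrp (truncMap)

variable {p : ℕ} [Fact p.Prime] {n : ℕ}

theorem Fil_le_jacobson {R : Type u} [CommRing R] (hp : IsNilpotent (p : R)) :
    Fil p n R 1 ≤ Ideal.jacobson (⊥ : Ideal (TruncatedWittVector p n R)) := fun x hx => by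
  rw [Ideal.mem_jacobson_bot]
  exact fun y => ((Commute.all _ _).isNilpotent_mul_right (isNilpotent_coeff_zero hp hx)).isUnit_add_one

namespace Glue

variable {R S : Type u} [CommRing R] [CommRing S] [Algebra R S]
  {M : Type u} [AddCommGroup M] [Module (TruncatedWittVector p n S) M]
  {X2 : Type u} [AddCommGroup X2] [Module (TruncatedWittVector p n (S ⊗[R] S)) X2]
  {X3 : Type u} [AddCommGroup X3] [Module (TruncatedWittVector p n (S ⊗[R] (S ⊗[R] S))) X3]
  [Module.Projective (TruncatedWittVector p n S) M]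
  [Module.Projective (TruncatedWittVector p n (S ⊗[R] S)) X2]
  [Module.Projective (TruncatedWittVector p n (S ⊗[R] (S ⊗[R] S))) X3]
  [Module.FaithfullyFlat R S]
  (G : Glue p n R S M X2 X3)

include G in
/-- An element equalized at the first step is congruent to an equalized element. -/
theorem exists_equalized {y : M} (hy : G.δ y ∈ FilM (p := p) (n := n) (T := S ⊗[R] S) 1) :
    ∃ y', y - y' ∈ FilM (p := p) (n := n) (T := S) (X := M) 1 ∧ G.δ y' = 0 := by
  have key : ∀ k, 1 ≤ k → k ≤ n → ∃ y', y - y' ∈ FilM (p := p) (n := n) (T := S) (X := M) 1 ∧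
      G.δ y' ∈ FilM (p := p) (n := n) (T := S ⊗[R] S) k := by
    intro k h1
    induction k, h1 using Nat.le_induction with
    | base => exact fun _ => ⟨y, by rw [sub_self]; exact zero_mem _, hy⟩
    | succ j hj ih =>
      intro hjn
      obtain ⟨y', hy', hd⟩ := ih (Nat.le_of_succ_le hjn)
      let k : Fin n := ⟨j, hjn⟩
      let alg : Algebra (TruncatedWittVector p n S) S := (gk p n S k).toAlgebra
      have : SMulCommClass (TruncatedWittVector p n S) R S := ⟨fun a r x => by
        simp only [Algebra.smul_def]; ring⟩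
      obtain ⟨z, hz, hdz⟩ := G.step (k := k) rfl hd
      refine ⟨y' - z, ?_, hdz⟩
      rw [sub_sub_eq_add_sub, add_sub_right_comm]
      exact add_mem hy' (Submodule.smul_mono_left (Fil_anti hj) hz)
  have hbot : FilM (p := p) (n := n) (T := S ⊗[R] S) (X := X2) n = ⊥ := by
    rw [FilM, Fil_top, Submodule.bot_smul]
  rcases Nat.eq_zero_or_pos n with hn | hn
  · refine ⟨y, by rw [sub_self]; exact zero_mem _, ?_⟩
    have : G.δ y ∈ FilM (p := p) (n := n) (T := S ⊗[R] S) (X := X2) n :=
      Submodule.smul_mono_left (Fil_anti (by omega)) hy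
    rwa [hbot, Submodule.mem_bot] at this
  · obtain ⟨y', hy', hd⟩ := key n hn le_rfl
    rw [hbot, Submodule.mem_bot] at hd
    exact ⟨y', hy', hd⟩

variable [Algebra (TruncatedWittVector p n R) (TruncatedWittVector p n S)]
  [Module (TruncatedWittVector p n R) M]
  [IsScalarTower (TruncatedWittVector p n R) (TruncatedWittVector p n S) M]
  [Module.Finite (TruncatedWittVector p n S) M]

set_option maxHeartbeats 1000000 in
include G in
/-- A glued finite projective module descends. -/
theorem exists_descent (hp : IsNilpotent (p : R)) (hn : 0 < n)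
    (hW : algebraMap (TruncatedWittVector p n R) (TruncatedWittVector p n S) = truncMap p n (algebraMap R S)) :
    ∃ (P : Type u) (_ : AddCommGroup P) (_ : Module (TruncatedWittVector p n R) P)
      (κ : P →ₗ[TruncatedWittVector p n R] M),
      Module.Finite (TruncatedWittVector p n R) P ∧ Module.Projective (TruncatedWittVector p n R) P ∧
      (∀ x, G.φ (κ x) = G.o2 (κ x)) ∧
      Function.Bijective (LinearMap.liftBaseChange (TruncatedWittVector p n S) κ) := by
  classical
  let k : Fin n := ⟨0, hn⟩
  have hk0 : (k : ℕ) = 0 := rfl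
  let algS : Algebra (TruncatedWittVector p n S) S := (gk p n S k).toAlgebra
  have hk : algebraMap (TruncatedWittVector p n S) S = gk p n S k := rfl
  have : SMulCommClass (TruncatedWittVector p n S) R S := ⟨fun a r x => by
    simp only [Algebra.smul_def]; ring⟩
  let N := S ⊗[TruncatedWittVector p n S] M
  let π : M →+ N := b1 (p := p) (n := n) (1 : S)
  have hπs : ∀ a m, π (a • m) = gk p n S k a • π m := fun a m => by
    show (1 : S) ⊗ₜ[TruncatedWittVector p n S] (a • m) = gk p n S k a • ((1 : S) ⊗ₜ[TruncatedWittVector p n S] m)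
    rw [← smul_tmul, smul_tmul', Algebra.smul_def, hk, smul_eq_mul]
  have htop : ∀ m : M, m ∈ FilM (p := p) (n := n) (T := S) (X := M) k := fun m => by
    rw [hk0, FilM, Fil_zero, Submodule.top_smul]; trivial
  have hgr : ∀ m : M, grMap p k (b1 (p := p) (n := n)) m = π m := fun m => by
    have h1 : (1 : TruncatedWittVector p n S) ∈ Fil p n S k := by rw [hk0, Fil_zero]; trivial
    have := grMap_smul (b1_balanced (M := M) hk) h1 m
    rw [one_smul, ← gk_zero_apply k hk0, map_one] at this
    exact this
  have hker : ∀ m : M, π m = 0 → m ∈ FilM (p := p) (n := n) (T := S) (X := M) 1 := fun m hm =>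
    mem_succ_of_grMap_eq_zero (k := k) (exists_functional₁ hk) (htop m) ((hgr m).trans hm)
  have hker' : ∀ m ∈ FilM (p := p) (n := n) (T := S) (X := M) 1, π m = 0 := fun m hm => by
    rw [← hgr]
    exact grMap_of_mem_succ (k := k) hm
  -- the descended module modulo the augmentation ideal
  let Q : Submodule R N := Groth.Agent.DescLib.ModDesc.inv (G.ρR hk)
  have hbij : Function.Bijective (LinearMap.liftBaseChange S Q.subtype) :=
    Groth.Agent.DescLib.ModDesc.bijective_liftBaseChange (G.ρ hk)
      (fun X _ _ => by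
        intro a b hab
        obtain ⟨a, rfl⟩ := (TensorProduct.rid R X).symm.surjective a
        obtain ⟨b, rfl⟩ := (TensorProduct.rid R X).symm.surjective b
        simp only [TensorProduct.rid_symm_apply, LinearMap.lTensor_tmul, Algebra.linearMap_apply, map_one] at hab
        have := congrArg (TensorProduct.comm R X S) hab
        simp only [TensorProduct.comm_tmul] at this
        rw [Module.FaithfullyFlat.tensorProduct_mk_injective (A := R) (B := S) X this])
      (G.coassoc hk) (G.counit hk)
  let eQ : S ⊗[R] Q ≃ₗ[S] N := LinearEquiv.ofBijective _ hbij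
  have : Module.Finite S (S ⊗[R] Q) := Module.Finite.equiv eQ.symm
  have : Module.Projective S (S ⊗[R] Q) := Module.Projective.of_equiv eQ.symm
  have : Module.Finite R Q := Module.Finite.of_finite_tensorProduct_of_faithfullyFlat (R := R) (T := S) (M := Q)
  have : Module.Projective R Q := Groth.Agent.AzumayaX.projective_descent S Q
  -- lift to a projective module over the Witt vectors
  let g0 : TruncatedWittVector p n R →+* R := gk p n R k
  have hg0 : Function.Surjective g0 := fun r => by
    obtain ⟨a, -, ha⟩ := exists_coeff (p := p) k r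
    exact ⟨a, (gk_zero_apply k hk0 a).trans ha⟩
  let I := RingHom.ker g0
  let eI : (TruncatedWittVector p n R ⧸ I) ≃+* R := RingHom.quotientKerEquivOfSurjective hg0
  let instQI : Module (TruncatedWittVector p n R ⧸ I) Q := Module.compHom Q eI.toRingHom
  have hQI : ∀ (c : TruncatedWittVector p n R ⧸ I) (q : Q), c • q = eI c • q := fun _ _ => rfl
  have : RingHomInvPair eI.toRingHom eI.symm.toRingHom := RingHomInvPair.of_ringEquiv eI
  have : RingHomInvPair eI.symm.toRingHom eI.toRingHom := RingHomInvPair.of_ringEquiv eI.symm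
  let eQI : Q ≃ₛₗ[eI.symm.toRingHom] Q :=
    { AddEquiv.refl Q with
      map_smul' := fun r q => by
        show r • q = eI (eI.symm r) • q
        rw [RingEquiv.apply_symm_apply] }
  have : Module.Finite (TruncatedWittVector p n R ⧸ I) Q :=
    Module.Finite.of_surjective eQI.toLinearMap eQI.surjective
  have : Module.Projective (TruncatedWittVector p n R ⧸ I) Q := Module.Projective.of_equiv eQI
  have : HenselianRing (TruncatedWittVector p n R) I :=
    Groth.Agent.Hensel.henselianRing_of_forall_isNilpotent I fun x hx =>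
      isNilpotent_coeff_zero hp (mem_Fil.2 fun i hi => by
        rw [show i = k from Fin.ext (by omega), ← gk_zero_apply k hk0]
        exact hx)
  obtain ⟨P, iP, iMP, hPf, hPp, ⟨eP⟩⟩ :=
    Groth.Agent.Hensel.exists_projective_lift I Q
  let πP : P →+ Q := eP.toAddEquiv.toAddMonoidHom.comp
    (TensorProduct.mk (TruncatedWittVector p n R) (TruncatedWittVector p n R ⧸ I) P 1).toAddMonoidHom
  have hπPs : ∀ a x, πP (a • x) = g0 a • πP x := fun a x => by
    show eP ((1 : TruncatedWittVector p n R ⧸ I) ⊗ₜ[TruncatedWittVector p n R] (a • x)) = _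
    rw [← smul_tmul, show (a • (1 : TruncatedWittVector p n R ⧸ I)) =
        (Ideal.Quotient.mk I a) • (1 : TruncatedWittVector p n R ⧸ I) from by
          rw [Algebra.smul_def, smul_eq_mul]; rfl, ← smul_tmul', map_smul]
    rw [hQI, RingHom.quotientKerEquivOfSurjective_apply_mk hg0 a]
    rfl
  have hmk : ∀ v : (TruncatedWittVector p n R ⧸ I) ⊗[TruncatedWittVector p n R] P,
      ∃ x, (1 : TruncatedWittVector p n R ⧸ I) ⊗ₜ[TruncatedWittVector p n R] x = v := fun v => by
    induction v using TensorProduct.induction_on with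
    | zero => exact ⟨0, tmul_zero _ _⟩
    | tmul a x =>
      obtain ⟨a, rfl⟩ := Ideal.Quotient.mk_surjective a
      exact ⟨a • x, by rw [← smul_tmul, Algebra.smul_def, mul_one]; rfl⟩
    | add y z hy hz =>
      obtain ⟨a, rfl⟩ := hy
      obtain ⟨b, rfl⟩ := hz
      exact ⟨a + b, tmul_add _ _ _⟩
  have hπPsurj : Function.Surjective πP := fun q => by
    obtain ⟨x, hx⟩ := hmk (eP.symm q)
    exact ⟨x, (congrArg eP hx).trans (eP.apply_symm_apply q)⟩
  have hIP : ∀ x, πP x = 0 → x ∈ I • (⊤ : Submodule (TruncatedWittVector p n R) P) := fun x hx => by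
    have h0 : (1 : TruncatedWittVector p n R ⧸ I) ⊗ₜ[TruncatedWittVector p n R] x = 0 :=
      eP.injective (hx.trans (map_zero eP).symm)
    have h1 := congrArg (TensorProduct.quotTensorEquivQuotSMul P I) h0
    rw [map_zero, ← map_one (Ideal.Quotient.mk I), TensorProduct.quotTensorEquivQuotSMul_mk_tmul, one_smul, Submodule.Quotient.mk_eq_zero] at h1
    exact h1
  -- equalized elements
  have hψ : ∀ r, truncMap p n (iL R S) (algebraMap (TruncatedWittVector p n R) (TruncatedWittVector p n S) r) =
      truncMap p n (iR R S) (algebraMap (TruncatedWittVector p n R) (TruncatedWittVector p n S) r) := fun r => by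
    rw [hW, ← RingHom.comp_apply, ← RingHom.comp_apply, ← WittGrp.truncMap_comp, ← WittGrp.truncMap_comp]
    congr 2
    ext s
    show algebraMap R S s ⊗ₜ[R] (1 : S) = (1 : S) ⊗ₜ[R] algebraMap R S s
    rw [Algebra.algebraMap_eq_smul_one, smul_tmul]
  let E : Submodule (TruncatedWittVector p n R) M :=
    { carrier := {m | G.φ m = G.o2 m}
      add_mem' := fun {a b} (ha : G.φ a = G.o2 a) (hb : G.φ b = G.o2 b) => by
        show G.φ (a + b) = G.o2 (a + b)
        rw [map_add, map_add, ha, hb]
      zero_mem' := by show G.φ 0 = G.o2 0; rw [map_zero, map_zero]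
      smul_mem' := fun r m (hm : G.φ m = G.o2 m) => by
        show G.φ (r • m) = G.o2 (r • m)
        rw [← IsScalarTower.algebraMap_smul (TruncatedWittVector p n S) r m, G.φ_smul, G.univ2.smul, hm, hψ] }
  have hπQ : ∀ m : E, π m.1 ∈ Q := fun m => by
    rw [Groth.Agent.DescLib.ModDesc.mem_inv]
    show G.b2 hk (iL R S 1) (G.φ m.1) = (1 : S) ⊗ₜ[R] ((1 : S) ⊗ₜ[TruncatedWittVector p n S] m.1)
    rw [show G.φ m.1 = G.o2 m.1 from m.2, G.b2_o2]
    rfl
  have hg : ∀ r, gk p n S k (algebraMap (TruncatedWittVector p n R) (TruncatedWittVector p n S) r) =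
      algebraMap R S (g0 r) := fun r => by rw [hW, gk_map]
  let instQW : Module (TruncatedWittVector p n R) Q := Module.compHom Q g0
  let πE : E →ₗ[TruncatedWittVector p n R] Q :=
    { toFun := fun m => ⟨π m.1, hπQ m⟩
      map_add' := fun a b => Subtype.ext (map_add π a.1 b.1)
      map_smul' := fun r a => Subtype.ext (by
        show π (r • a.1) = (g0 r) • π a.1
        rw [← IsScalarTower.algebraMap_smul (TruncatedWittVector p n S) r a.1, hπs, hg, algebraMap_smul]) }
  let πPl : P →ₗ[TruncatedWittVector p n R] Q := { πP with map_smul' := fun r x => hπPs r x }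
  have hπE : Function.Surjective πE := fun q => by
    obtain ⟨m, hm, hmq⟩ := exists_grMap_eq (p := p) (k := k) hk q.1
    rw [hgr] at hmq
    have hd : G.δ m ∈ FilM (p := p) (n := n) (T := S ⊗[R] S) (X := X2) 1 := by
      refine mem_succ_of_grMap_eq_zero (k := k) (G.exists_functional₂ hk) (G.δ_mem hk hm) ?_
      rw [G.grMap_δ hk hm, hgr, hmq]
      exact q.2
    obtain ⟨m', hmm', hm'⟩ := G.exists_equalized hd
    have he : G.φ m' = G.o2 m' := sub_eq_zero.1 hm'
    refine ⟨⟨m', he⟩, Subtype.ext ?_⟩
    show π m' = q.1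
    rw [← hmq, eq_comm, ← sub_eq_zero, ← map_sub]
    exact hker' _ hmm'
  obtain ⟨κ₀, hκ₀⟩ := Module.projective_lifting_property πE πPl hπE
  let κ : P →ₗ[TruncatedWittVector p n R] M := E.subtype ∘ₗ κ₀
  have hπκ : ∀ x, π (κ x) = (πP x).1 := fun x => congrArg Subtype.val (LinearMap.congr_fun hκ₀ x)
  let f := LinearMap.liftBaseChange (TruncatedWittVector p n S) κ
  have hf : ∀ a x, f (a ⊗ₜ[TruncatedWittVector p n R] x) = a • κ x := fun a x => LinearMap.liftBaseChange_tmul _ _ _ _
  have hjac := Fil_le_jacobson (n := n) (R := S) (p := p) (by simpa using hp.map (algebraMap R S))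
  -- surjectivity
  have hsurj : Function.Surjective f := by
    rw [← LinearMap.range_eq_top, eq_top_iff]
    refine Submodule.le_of_le_smul_of_le_jacobson_bot Module.Finite.fg_top hjac fun y _ => ?_
    obtain ⟨w, hw⟩ := hbij.2 (π y)
    suffices h : ∀ w, ∃ z, π (f z) = LinearMap.liftBaseChange S Q.subtype w by
      obtain ⟨z, hz⟩ := h w
      refine Submodule.mem_sup.2 ⟨f z, ⟨z, rfl⟩, y - f z, hker _ ?_, by abel⟩
      rw [map_sub, hz, hw, sub_self]
    intro w
    induction w using TensorProduct.induction_on with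
    | zero => exact ⟨0, by rw [map_zero, map_zero, map_zero]⟩
    | tmul t q =>
      obtain ⟨a, -, ha⟩ := exists_coeff (p := p) k t
      obtain ⟨x, rfl⟩ := hπPsurj q
      refine ⟨a ⊗ₜ[TruncatedWittVector p n R] x, ?_⟩
      rw [hf, hπs, hπκ, gk_zero_apply k hk0, ha, LinearMap.liftBaseChange_tmul]
      rfl
    | add u v hu hv =>
      obtain ⟨a, ha⟩ := hu
      obtain ⟨b, hb⟩ := hv
      exact ⟨a + b, by rw [map_add, map_add, map_add, ha, hb]⟩
  -- injectivity
  let Z := TruncatedWittVector p n S ⊗[TruncatedWittVector p n R] P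
  let θ₀ : Z →+ S ⊗[R] Q := TensorProduct.liftAddHom
    (AddMonoidHom.mk' (fun a => AddMonoidHom.mk' (fun x => gk p n S k a ⊗ₜ[R] πP x)
        fun x y => by rw [map_add, tmul_add])
      fun a b => AddMonoidHom.ext fun x => by
        show gk p n S k (a + b) ⊗ₜ[R] πP x = gk p n S k a ⊗ₜ[R] πP x + gk p n S k b ⊗ₜ[R] πP x
        rw [map_add, add_tmul])
    fun r a x => by
      show gk p n S k (r • a) ⊗ₜ[R] πP x = gk p n S k a ⊗ₜ[R] πP (r • x)
      rw [hπPs, Algebra.smul_def, map_mul, hg, ← Algebra.smul_def, smul_tmul]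
  have hθf : ∀ z, π (f z) = LinearMap.liftBaseChange S Q.subtype (θ₀ z) := fun z => by
    induction z using TensorProduct.induction_on with
    | zero => rw [map_zero, map_zero, map_zero, map_zero]
    | tmul a x =>
      rw [hf, hπs, hπκ]
      show _ = LinearMap.liftBaseChange S Q.subtype (gk p n S k a ⊗ₜ[R] πP x)
      rw [LinearMap.liftBaseChange_tmul]
      rfl
    | add u v hu hv => rw [map_add, map_add, map_add, map_add, hu, hv]
  let J : Submodule (TruncatedWittVector p n S) Z := FilM (p := p) (n := n) (T := S) 1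
  have hI : ∀ r ∈ I, algebraMap (TruncatedWittVector p n R) (TruncatedWittVector p n S) r ∈ Fil p n S 1 := by
    intro r hr
    rw [hW]
    refine map_mem_Fil _ (mem_Fil.2 fun i hi => ?_)
    have h := gk_zero_apply k hk0 r
    rw [show gk p n R k r = 0 from hr] at h
    rw [show i = k from Fin.ext (by omega), ← h]
  have hJ : ∀ (a : TruncatedWittVector p n S) (x : P), gk p n S k a = 0 ∨ πP x = 0 →
      a ⊗ₜ[TruncatedWittVector p n R] x ∈ J := by
    intro a x h
    rcases h with h | h
    · have ha : a ∈ Fil p n S 1 := mem_Fil.2 fun i hi => by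
        rw [show i = k from Fin.ext (by omega), ← gk_zero_apply k hk0, h]
      rw [show a ⊗ₜ[TruncatedWittVector p n R] x = a • ((1 : TruncatedWittVector p n S) ⊗ₜ[TruncatedWittVector p n R] x) from by
        rw [smul_tmul', smul_eq_mul, mul_one]]
      exact Submodule.smul_mem_smul ha Submodule.mem_top
    · refine Submodule.smul_induction_on (hIP x h) (fun r hr y _ => ?_) fun y z hy hz => ?_
      · rw [← smul_tmul, Algebra.smul_def, ← smul_eq_mul, ← smul_tmul']
        exact Submodule.smul_mem_smul (hI r hr) Submodule.mem_top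
      · rw [tmul_add]; exact add_mem hy hz
  choose lt hlt using fun t : S => exists_coeff (p := p) k t
  choose lq hlq using hπPsurj
  have hgl : ∀ t, gk p n S k (lt t) = t := fun t => (gk_zero_apply k hk0 _).trans (hlt t).2
  let μf : S → Q → (Z ⧸ J) := fun t q => J.mkQ (lt t ⊗ₜ[TruncatedWittVector p n R] lq q)
  have hμ : ∀ a x, μf (gk p n S k a) (πP x) = J.mkQ (a ⊗ₜ[TruncatedWittVector p n R] x) := by
    intro a x
    show J.mkQ _ = J.mkQ _
    rw [← sub_eq_zero, ← map_sub, Submodule.mkQ_apply, Submodule.Quotient.mk_eq_zero,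
      show lt (gk p n S k a) ⊗ₜ[TruncatedWittVector p n R] lq (πP x) - a ⊗ₜ[TruncatedWittVector p n R] x =
        (lt (gk p n S k a) - a) ⊗ₜ[TruncatedWittVector p n R] lq (πP x) +
          a ⊗ₜ[TruncatedWittVector p n R] (lq (πP x) - x) from by rw [sub_tmul, tmul_sub]; abel]
    exact add_mem (hJ _ _ (Or.inl (by rw [map_sub, hgl, sub_self])))
      (hJ _ _ (Or.inr (by rw [map_sub, hlq, sub_self])))
  have hμ' : ∀ t q, ∃ a x, gk p n S k a = t ∧ πP x = q := fun t q => ⟨lt t, lq q, hgl t, hlq q⟩
  let μ : S ⊗[R] Q →+ Z ⧸ J := TensorProduct.liftAddHom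
    (AddMonoidHom.mk' (fun t => AddMonoidHom.mk' (μf t) fun q q' => by
        obtain ⟨a, x, rfl, rfl⟩ := hμ' t q
        obtain ⟨b, x', -, rfl⟩ := hμ' 0 q'
        rw [← map_add πP, hμ, hμ, hμ, tmul_add, map_add])
      fun t t' => AddMonoidHom.ext fun q => by
        show μf (t + t') q = μf t q + μf t' q
        obtain ⟨a, x, rfl, rfl⟩ := hμ' t q
        obtain ⟨b, x', rfl, -⟩ := hμ' t' (πP x)
        rw [← map_add (gk p n S k), hμ, hμ, hμ, add_tmul, map_add])
    fun r t q => by
      show μf (r • t) q = μf t (r • q)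
      obtain ⟨a, x, rfl, rfl⟩ := hμ' t q
      obtain ⟨c, rfl⟩ := hg0 r
      rw [← hπPs, Algebra.smul_def, ← hg, ← map_mul, hμ, hμ, ← smul_tmul, Algebra.smul_def]
  have hμθ : ∀ z, μ (θ₀ z) = J.mkQ z := fun z => by
    induction z using TensorProduct.induction_on with
    | zero => rw [map_zero, map_zero, map_zero]
    | tmul a x => exact hμ a x
    | add u v hu hv => rw [map_add, map_add, map_add, hu, hv]
  obtain ⟨s, hs⟩ := Module.projective_lifting_property f LinearMap.id hsurj
  have hfs : ∀ y, f (s y) = y := fun y => LinearMap.congr_fun hs y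
  have hssurj : Function.Surjective s := by
    rw [← LinearMap.range_eq_top, eq_top_iff]
    refine Submodule.le_of_le_smul_of_le_jacobson_bot Module.Finite.fg_top hjac fun z _ => ?_
    refine Submodule.mem_sup.2 ⟨s (f z), ⟨f z, rfl⟩, z - s (f z), ?_, by abel⟩
    have h0 : θ₀ (z - s (f z)) = 0 := hbij.1 (by rw [← hθf, map_sub, hfs, sub_self, map_zero, map_zero])
    have := hμθ (z - s (f z))
    rw [h0, map_zero, eq_comm, Submodule.mkQ_apply, Submodule.Quotient.mk_eq_zero] at this
    exact this
  refine ⟨P, iP, iMP, κ, hPf, hPp, fun x => (κ₀ x).2, fun z z' h => ?_, hsurj⟩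
  obtain ⟨y, rfl⟩ := hssurj z
  obtain ⟨y', rfl⟩ := hssurj z'
  have h' : f (s y) = f (s y') := h
  rw [hfs, hfs] at h'
  rw [h']

end Glue

end Groth.Agent.WittModDesc
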