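import Mathlib

/-!
# Exactness of the cobar complex in degree one along a faithfully flat map

For any `R`-linear `ρ : N → S ⊗ N` every 1-cocycle `c ∈ S ⊗ N` is of the form `ρ v - 1 ⊗ v`.
-/

universe u

set_option autoImplicit false

noncomputable section

namespace Groth.Agent.WittModDesc

open TensorProduct

variable {R S : Type u} [CommRing R] [CommRing S] [Algebra R S] {N : Type u} [AddCommGroup N] [Module R N]

/-- The first differential. -/
def d1 (ρ : N →ₗ[R] S ⊗[R] N) : N →ₗ[R] S ⊗[R] N := ρ - TensorProduct.mk R S N 1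

/-- The second differential. -/
def d2 (ρ : N →ₗ[R] S ⊗[R] N) : S ⊗[R] N →ₗ[R] S ⊗[R] (S ⊗[R] N) :=
  TensorProduct.mk R S (S ⊗[R] N) 1 - (TensorProduct.mk R S N 1).lTensor S + ρ.lTensor S

/-- The contraction `s ⊗ (a ⊗ X) ↦ sa ⊗ X`. -/
def contract (X : Type u) [AddCommGroup X] [Module R X] : S ⊗[R] (S ⊗[R] X) →ₗ[R] S ⊗[R] X :=
  (LinearMap.mul' R S).rTensor X ∘ₗ (TensorProduct.assoc R S S X).symm.toLinearMap

theorem contract_tmul (X : Type u) [AddCommGroup X] [Module R X] (s a : S) (x : X) :
    contract (R := R) X (s ⊗ₜ[R] (a ⊗ₜ[R] x)) = (s * a) ⊗ₜ[R] x := rfl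

theorem exists_d1_eq [Module.FaithfullyFlat R S] (ρ : N →ₗ[R] S ⊗[R] N) {c : S ⊗[R] N} (hc : d2 ρ c = 0) :
    ∃ v, d1 ρ v = c := by
  let K := LinearMap.ker (d2 ρ)
  let q := (LinearMap.range (d1 ρ)).mkQ
  suffices h : (q ∘ₗ K.subtype).lTensor S = 0 by
    have this := LinearMap.congr_fun ((Module.FaithfullyFlat.zero_iff_lTensor_zero R S _).2 h) (⟨c, hc⟩ : K)
    simp only [LinearMap.comp_apply, Submodule.subtype_apply, LinearMap.zero_apply, q, Submodule.mkQ_apply,
      Submodule.Quotient.mk_eq_zero] at this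
    exact this
  -- the homotopy
  have hom : ∀ w : S ⊗[R] (S ⊗[R] N),
      contract (S ⊗[R] N) ((d2 ρ).lTensor S w) - (d1 ρ).lTensor S (contract N w) = w := by
    intro w
    induction w using TensorProduct.induction_on with
    | zero => simp
    | tmul s y =>
      induction y using TensorProduct.induction_on with
      | zero => simp
      | tmul a m =>
        simp only [LinearMap.lTensor_tmul, d2, d1, LinearMap.add_apply, LinearMap.sub_apply,
          TensorProduct.mk_apply, tmul_sub, tmul_add, map_sub, map_add, contract_tmul, mul_one]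
        abel
      | add y z hy hz =>
        rw [tmul_add, map_add, map_add, map_add, map_add, add_sub_add_comm, hy, hz]
    | add y z hy hz => rw [map_add, map_add, map_add, map_add, add_sub_add_comm, hy, hz]
  refine LinearMap.ext fun w => ?_
  rw [LinearMap.lTensor_comp, LinearMap.comp_apply, LinearMap.zero_apply]
  have h2 : (d2 ρ).lTensor S (K.subtype.lTensor S w) = 0 := by
    rw [← LinearMap.comp_apply, ← LinearMap.lTensor_comp, show (d2 ρ) ∘ₗ K.subtype = 0 from
      LinearMap.ext fun x => x.2, LinearMap.lTensor_zero, LinearMap.zero_apply]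
  rw [← hom (K.subtype.lTensor S w), h2, map_zero, zero_sub, map_neg, ← LinearMap.comp_apply,
    ← LinearMap.lTensor_comp, show q ∘ₗ d1 ρ = 0 from
      LinearMap.ext fun x => (Submodule.Quotient.mk_eq_zero _).2 ⟨x, rfl⟩, LinearMap.lTensor_zero,
    LinearMap.zero_apply, neg_zero]

end Groth.Agent.WittModDesc
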