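import Groth.Agent.WittModDesc.Graded
import Groth.Agent.WittModDesc.Exact
import Groth.Agent.DescLib.ModDesc.Equalizer

/-!
# Gluing of modules over truncated Witt vectors, in elements

The graded pieces of the Čech complex of a gluing datum are cobar complexes over `R → S`.
-/

universe u

set_option autoImplicit false

noncomputable section

namespace Groth.Agent.WittModDesc

open TensorProduct

/-- `o : M → X` exhibits `X` as the base change of `M` along `φ`. -/
structure Universal {A B : Type u} [CommRing A] [CommRing B] (φ : A →+* B) {M X : Type u} [AddCommGroup M]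
    [Module A M] [AddCommGroup X] [Module B X] (o : M →+ X) : Prop where
  smul : ∀ (a : A) m, o (a • m) = φ a • o m
  induction : ∀ P : X → Prop, P 0 → (∀ (b : B) m, P (b • o m)) → (∀ x y, P x → P y → P (x + y)) → ∀ x, P x
  lift : ∀ (V : Type u) [AddCommGroup V] (β : B →+ M →+ V), (∀ a b m, β (φ a * b) m = β b (a • m)) →
    ∃ L : X →+ V, ∀ (b : B) m, L (b • o m) = β b m

section Maps

variable (R S : Type u) [CommRing R] [CommRing S] [Algebra R S]

abbrev iL : S →+* S ⊗[R] S := Algebra.TensorProduct.includeLeftRingHom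

abbrev iR : S →+* S ⊗[R] S := (Algebra.TensorProduct.includeRight (R := R) (A := S) (B := S)).toRingHom

abbrev q0 : S ⊗[R] S →+* S ⊗[R] (S ⊗[R] S) :=
  (Algebra.TensorProduct.includeRight (R := R) (A := S) (B := S ⊗[R] S)).toRingHom

abbrev q1 : S ⊗[R] S →+* S ⊗[R] (S ⊗[R] S) :=
  (Algebra.TensorProduct.map (AlgHom.id R S)
    (Algebra.TensorProduct.includeRight : S →ₐ[R] S ⊗[R] S)).toRingHom

abbrev q2 : S ⊗[R] S →+* S ⊗[R] (S ⊗[R] S) :=
  (Algebra.TensorProduct.map (AlgHom.id R S)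
    (Algebra.TensorProduct.includeLeft : S →ₐ[R] S ⊗[R] S)).toRingHom

abbrev j3 : S →+* S ⊗[R] (S ⊗[R] S) := (q0 R S).comp (iR R S)

abbrev mulS : S ⊗[R] S →+* S := (Algebra.TensorProduct.lmul' R : S ⊗[R] S →ₐ[R] S).toRingHom

end Maps

open WittGrp (truncMap)

variable {p : ℕ} [Fact p.Prime] {n : ℕ} {R S : Type u} [CommRing R] [CommRing S] [Algebra R S]
  {M : Type u} [AddCommGroup M] [Module (TruncatedWittVector p n S) M]
  {X2 : Type u} [AddCommGroup X2] [Module (TruncatedWittVector p n (S ⊗[R] S)) X2]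
  {X3 : Type u} [AddCommGroup X3] [Module (TruncatedWittVector p n (S ⊗[R] (S ⊗[R] S))) X3]

variable (p n R S M X2 X3) in
/-- A gluing datum, in elements. -/
structure Glue where
  o2 : M →+ X2
  φ : M →+ X2
  o3 : M →+ X3
  e0 : X2 →+ X3
  e1 : X2 →+ X3
  e2 : X2 →+ X3
  η : X2 →+ M
  univ2 : Universal (truncMap p n (iR R S)) o2
  univ3 : Universal (truncMap p n (j3 R S)) o3
  φ_smul : ∀ a m, φ (a • m) = truncMap p n (iL R S) a • φ m
  e0_smul : ∀ b x, e0 (b • x) = truncMap p n (q0 R S) b • e0 x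
  e1_smul : ∀ b x, e1 (b • x) = truncMap p n (q1 R S) b • e1 x
  e2_smul : ∀ b x, e2 (b • x) = truncMap p n (q2 R S) b • e2 x
  η_smul : ∀ b x, η (b • x) = truncMap p n (mulS R S) b • η x
  e0_o2 : ∀ m, e0 (o2 m) = o3 m
  e1_o2 : ∀ m, e1 (o2 m) = o3 m
  e2_o2 : ∀ m, e2 (o2 m) = e0 (φ m)
  cocycle : ∀ m, e1 (φ m) = e2 (φ m)
  η_o2 : ∀ m, η (o2 m) = m
  η_φ : ∀ m, η (φ m) = m

namespace Glue

variable (G : Glue p n R S M X2 X3)

/-- The difference of the two maps to the double product. -/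
def δ : M →+ X2 := G.φ - G.o2

theorem δ_apply (m : M) : G.δ m = G.φ m - G.o2 m := rfl

theorem δ_complex (m : M) : G.e0 (G.δ m) - G.e1 (G.δ m) + G.e2 (G.δ m) = 0 := by
  rw [δ_apply, map_sub, map_sub, map_sub, G.e0_o2, G.e1_o2, G.e2_o2, G.cocycle]
  abel

section Level

variable {k : Fin n} [Algebra (TruncatedWittVector p n S) S]
  (hk : algebraMap (TruncatedWittVector p n S) S = gk p n S k)
  [SMulCommClass (TruncatedWittVector p n S) R S]

local notation "N" => S ⊗[TruncatedWittVector p n S] M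

/-- `a ⊗ c ↦ a ⊗ (c ⊗ m)`. -/
def Φ (m : M) : S ⊗[R] S →ₗ[R] S ⊗[R] N :=
  LinearMap.lTensor S
    { toFun := fun c : S => c ⊗ₜ[TruncatedWittVector p n S] m
      map_add' := fun c c' => add_tmul c c' m
      map_smul' := fun _ _ => rfl }

theorem Φ_tmul (m : M) (a c : S) :
    Φ (R := R) m (a ⊗ₜ[R] c) = a ⊗ₜ[R] (c ⊗ₜ[TruncatedWittVector p n S] m) := rfl

theorem Φ_add (m m' : M) (y : S ⊗[R] S) : Φ (p := p) (n := n) (m + m') y = Φ (p := p) (n := n) m y + Φ (p := p) (n := n) m' y := by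
  induction y using TensorProduct.induction_on with
  | zero => simp only [map_zero, add_zero]
  | tmul a c => rw [Φ_tmul, Φ_tmul, Φ_tmul, tmul_add, tmul_add]
  | add y z hy hz => rw [map_add, map_add, map_add, hy, hz, add_add_add_comm]

include hk in
theorem Φ_smul (m : M) (w : TruncatedWittVector p n S) (y : S ⊗[R] S) :
    Φ (p := p) (n := n) (w • m) y = Φ (p := p) (n := n) m (iR R S (gk p n S k w) * y) := by
  induction y using TensorProduct.induction_on with
  | zero => simp only [mul_zero, map_zero]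
  | tmul a c =>
    show _ = Φ (R := R) m (((1 : S) ⊗ₜ[R] gk p n S k w) * (a ⊗ₜ[R] c))
    rw [Algebra.TensorProduct.tmul_mul_tmul, one_mul, Φ_tmul, Φ_tmul, ← smul_tmul, Algebra.smul_def, hk]
  | add y z hy hz => rw [mul_add, map_add, map_add, hy, hz]

theorem Φ_left (m : M) (s : S) (y : S ⊗[R] S) :
    Φ (p := p) (n := n) m (iL R S s * y) = s • Φ (p := p) (n := n) m y := by
  induction y using TensorProduct.induction_on with
  | zero => simp only [mul_zero, map_zero, smul_zero]
  | tmul a c =>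
    show Φ (R := R) m ((s ⊗ₜ[R] (1 : S)) * (a ⊗ₜ[R] c)) = _
    rw [Algebra.TensorProduct.tmul_mul_tmul, one_mul, Φ_tmul, Φ_tmul, smul_tmul', smul_eq_mul]
  | add y z hy hz => rw [mul_add, map_add, map_add, smul_add, hy, hz]

include G hk in
theorem exists_b2 : ∃ b2 : S ⊗[R] S →+ X2 →+ S ⊗[R] N,
    ∀ t w m, b2 t (w • G.o2 m) = Φ (p := p) (n := n) m (t * gk p n (S ⊗[R] S) k w) := by
  obtain ⟨L, hL⟩ := G.univ2.lift (S ⊗[R] S →+ S ⊗[R] N)
    (AddMonoidHom.mk' (fun w => AddMonoidHom.mk'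
        (fun m => AddMonoidHom.mk' (fun t => Φ (p := p) (n := n) m (t * gk p n (S ⊗[R] S) k w))
          fun t t' => by rw [add_mul, map_add])
        fun m m' => AddMonoidHom.ext fun t => Φ_add m m' _)
      fun w w' => AddMonoidHom.ext fun m => AddMonoidHom.ext fun t => by
        show Φ (p := p) (n := n) m (t * gk p n (S ⊗[R] S) k (w + w')) = Φ (p := p) (n := n) m (t * gk p n (S ⊗[R] S) k w) +
          Φ (p := p) (n := n) m (t * gk p n (S ⊗[R] S) k w')
        rw [map_add, mul_add, map_add])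
    fun a w m => AddMonoidHom.ext fun t => by
      show Φ (p := p) (n := n) m (t * gk p n (S ⊗[R] S) k (truncMap p n (iR R S) a * w)) =
        Φ (p := p) (n := n) (a • m) (t * gk p n (S ⊗[R] S) k w)
      rw [Φ_smul hk, map_mul (gk p n (S ⊗[R] S) k), gk_map, mul_left_comm]
  exact ⟨L.flip, fun t w m => DFunLike.congr_fun (hL w m) t⟩

/-- The pairing into the double product. -/
def b2 : S ⊗[R] S →+ X2 →+ S ⊗[R] N := (G.exists_b2 hk).choose

theorem b2_spec (t : S ⊗[R] S) (w : TruncatedWittVector p n (S ⊗[R] S)) (m : M) :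
    G.b2 hk t (w • G.o2 m) = Φ (p := p) (n := n) m (t * gk p n (S ⊗[R] S) k w) := (G.exists_b2 hk).choose_spec t w m

theorem b2_balanced : Balanced p k (G.b2 hk) := by
  intro t a x
  refine G.univ2.induction (fun x => G.b2 hk t (a • x) = G.b2 hk (t * gk p n (S ⊗[R] S) k a) x) ?_
    (fun w m => ?_) (fun x y hx hy => ?_) x
  · rw [smul_zero, map_zero, map_zero]
  · rw [smul_smul, G.b2_spec, G.b2_spec, map_mul (gk p n (S ⊗[R] S) k), mul_assoc]
  · rw [smul_add, map_add, map_add, hx, hy]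

theorem b2_left (s : S) (t : S ⊗[R] S) (x : X2) : G.b2 hk (iL R S s * t) x = s • G.b2 hk t x := by
  refine G.univ2.induction (fun x => G.b2 hk (iL R S s * t) x = s • G.b2 hk t x) ?_
    (fun w m => ?_) (fun x y hx hy => ?_) x
  · rw [map_zero, map_zero, smul_zero]
  · rw [G.b2_spec, G.b2_spec, mul_assoc, Φ_left]
  · rw [map_add, map_add, smul_add, hx, hy]

theorem b2_o2 (t : S ⊗[R] S) (m : M) : G.b2 hk t (G.o2 m) = Φ (p := p) (n := n) m t := by
  have h := G.b2_spec hk t 1 m
  rwa [one_smul, map_one, mul_one] at h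

/-- The coaction. -/
def ρ : N →ₗ[S] S ⊗[R] N :=
  let ρ₀ : N →+ S ⊗[R] N :=
    TensorProduct.liftAddHom
      (AddMonoidHom.mk' (fun t => ((G.b2 hk (iL R S t)).comp G.φ))
        fun t t' => by rw [map_add, map_add]; rfl)
      fun a t m => by
        show G.b2 hk (iL R S (a • t)) (G.φ m) = G.b2 hk (iL R S t) (G.φ (a • m))
        rw [G.φ_smul, G.b2_balanced hk, gk_map, ← map_mul, Algebra.smul_def, hk, mul_comm]
  { toFun := ρ₀
    map_add' := map_add ρ₀
    map_smul' := fun s z => by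
      induction z using TensorProduct.induction_on with
      | zero => rw [smul_zero, map_zero, smul_zero]
      | tmul t m =>
        rw [RingHom.id_apply, smul_tmul', smul_eq_mul]
        show G.b2 hk (iL R S (s * t)) (G.φ m) = s • G.b2 hk (iL R S t) (G.φ m)
        rw [map_mul, b2_left]
      | add y z hy hz => rw [smul_add, map_add, map_add, smul_add, hy, hz] }

theorem ρ_tmul (t : S) (m : M) :
    G.ρ hk (t ⊗ₜ[TruncatedWittVector p n S] m) = G.b2 hk (iL R S t) (G.φ m) := rfl

/-- The coaction as a map of `R`-modules. -/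
abbrev ρR : N →ₗ[R] S ⊗[R] N := (G.ρ hk).restrictScalars R

theorem lTensor_Φ_smul (m : M) (w : TruncatedWittVector p n S) (y : S ⊗[R] (S ⊗[R] S))
    (hk : algebraMap (TruncatedWittVector p n S) S = gk p n S k) :
    (Φ (p := p) (n := n) (w • m)).lTensor S y = (Φ (p := p) (n := n) m).lTensor S (j3 R S (gk p n S k w) * y) := by
  induction y using TensorProduct.induction_on with
  | zero => simp only [mul_zero, map_zero]
  | tmul a v =>
    show _ = (Φ (p := p) (n := n) m).lTensor S (((1 : S) ⊗ₜ[R] iR R S (gk p n S k w)) * (a ⊗ₜ[R] v))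
    rw [Algebra.TensorProduct.tmul_mul_tmul, one_mul, LinearMap.lTensor_tmul, LinearMap.lTensor_tmul, Φ_smul hk]
  | add y z hy hz => rw [mul_add, map_add, map_add, hy, hz]

include G hk in
theorem exists_b3 : ∃ b3 : S ⊗[R] (S ⊗[R] S) →+ X3 →+ S ⊗[R] (S ⊗[R] N),
    ∀ t w m, b3 t (w • G.o3 m) = (Φ (p := p) (n := n) m).lTensor S (t * gk p n _ k w) := by
  obtain ⟨L, hL⟩ := G.univ3.lift (S ⊗[R] (S ⊗[R] S) →+ S ⊗[R] (S ⊗[R] N))
    (AddMonoidHom.mk' (fun w => AddMonoidHom.mk'
        (fun m => AddMonoidHom.mk' (fun t => (Φ (p := p) (n := n) m).lTensor S (t * gk p n _ k w))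
          fun t t' => by rw [add_mul, map_add])
        fun m m' => AddMonoidHom.ext fun t => by
          show (Φ (p := p) (n := n) (m + m')).lTensor S _ = (Φ (p := p) (n := n) m).lTensor S _ + (Φ (p := p) (n := n) m').lTensor S _
          rw [show Φ (p := p) (n := n) (R := R) (m + m') = Φ (p := p) (n := n) m + Φ (p := p) (n := n) m' from
            LinearMap.ext (Φ_add m m'), LinearMap.lTensor_add, LinearMap.add_apply])
      fun w w' => AddMonoidHom.ext fun m => AddMonoidHom.ext fun t => by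
        show (Φ (p := p) (n := n) m).lTensor S (t * gk p n _ k (w + w')) =
          (Φ (p := p) (n := n) m).lTensor S (t * gk p n _ k w) + (Φ (p := p) (n := n) m).lTensor S (t * gk p n _ k w')
        rw [map_add, mul_add, map_add])
    fun a w m => AddMonoidHom.ext fun t => by
      show (Φ (p := p) (n := n) m).lTensor S (t * gk p n _ k (truncMap p n (j3 R S) a * w)) =
        (Φ (p := p) (n := n) (a • m)).lTensor S (t * gk p n _ k w)
      rw [lTensor_Φ_smul (k := k) m a _ hk, map_mul (gk p n (S ⊗[R] (S ⊗[R] S)) k), gk_map, mul_left_comm]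
  exact ⟨L.flip, fun t w m => DFunLike.congr_fun (hL w m) t⟩

/-- The pairing into the triple product. -/
def b3 : S ⊗[R] (S ⊗[R] S) →+ X3 →+ S ⊗[R] (S ⊗[R] N) := (G.exists_b3 hk).choose

theorem b3_spec (t : S ⊗[R] (S ⊗[R] S)) (w : TruncatedWittVector p n (S ⊗[R] (S ⊗[R] S))) (m : M) :
    G.b3 hk t (w • G.o3 m) = (Φ (p := p) (n := n) m).lTensor S (t * gk p n _ k w) :=
  (G.exists_b3 hk).choose_spec t w m

theorem b3_balanced : Balanced p k (G.b3 hk) := by
  intro t a x
  refine G.univ3.induction (fun x => G.b3 hk t (a • x) = G.b3 hk (t * gk p n _ k a) x) ?_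
    (fun w m => ?_) (fun x y hx hy => ?_) x
  · rw [smul_zero, map_zero, map_zero]
  · rw [smul_smul, G.b3_spec, G.b3_spec, map_mul (gk p n (S ⊗[R] (S ⊗[R] S)) k), mul_assoc]
  · rw [smul_add, map_add, map_add, hx, hy]

theorem b3_o3 (t : S ⊗[R] (S ⊗[R] S)) (m : M) : G.b3 hk t (G.o3 m) = (Φ (p := p) (n := n) m).lTensor S t := by
  have h := G.b3_spec hk t 1 m
  rwa [one_smul, map_one, mul_one] at h

theorem Λ0 (t : S ⊗[R] S) (x : X2) :
    (1 : S) ⊗ₜ[R] G.b2 hk t x = G.b3 hk (q0 R S t) (G.e0 x) := by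
  refine G.univ2.induction (fun x => (1 : S) ⊗ₜ[R] G.b2 hk t x = G.b3 hk (q0 R S t) (G.e0 x)) ?_
    (fun w m => ?_) (fun x y hx hy => ?_) x
  · rw [map_zero, map_zero, map_zero, tmul_zero]
  · rw [G.e0_smul, G.e0_o2, G.b2_spec, G.b3_spec, gk_map, ← map_mul (q0 R S)]
    rfl
  · rw [map_add, map_add, map_add, tmul_add, hx, hy]

theorem Λ1 (t : S ⊗[R] S) (x : X2) :
    (TensorProduct.mk R S N 1).lTensor S (G.b2 hk t x) = G.b3 hk (q1 R S t) (G.e1 x) := by
  refine G.univ2.induction (fun x => (TensorProduct.mk R S N 1).lTensor S (G.b2 hk t x) =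
    G.b3 hk (q1 R S t) (G.e1 x)) ?_ (fun w m => ?_) (fun x y hx hy => ?_) x
  · rw [map_zero, map_zero, map_zero, map_zero]
  · rw [G.e1_smul, G.e1_o2, G.b2_spec, G.b3_spec, gk_map, ← map_mul (q1 R S)]
    induction (t * gk p n (S ⊗[R] S) k w) using TensorProduct.induction_on with
    | zero => simp only [map_zero]
    | tmul a c => rfl
    | add y z hy hz => rw [map_add, map_add, map_add, map_add, hy, hz]
  · rw [map_add, map_add, map_add, map_add, hx, hy]

theorem b3_q2 (a c : S) (x : X2) :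
    G.b3 hk (q2 R S (a ⊗ₜ[R] c)) (G.e0 x) = a ⊗ₜ[R] G.b2 hk (iL R S c) x := by
  refine G.univ2.induction (fun x => G.b3 hk (q2 R S (a ⊗ₜ[R] c)) (G.e0 x) = a ⊗ₜ[R] G.b2 hk (iL R S c) x) ?_
    (fun w m => ?_) (fun x y hx hy => ?_) x
  · rw [map_zero, map_zero, map_zero, tmul_zero]
  · rw [G.e0_smul, G.e0_o2, G.b2_spec, G.b3_spec, gk_map]
    show (Φ (p := p) (n := n) m).lTensor S ((a ⊗ₜ[R] (c ⊗ₜ[R] (1 : S))) * ((1 : S) ⊗ₜ[R] gk p n (S ⊗[R] S) k w)) = _
    rw [Algebra.TensorProduct.tmul_mul_tmul, mul_one, LinearMap.lTensor_tmul]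
    rfl
  · rw [map_add, map_add, map_add, tmul_add, hx, hy]

theorem Λ2 (t : S ⊗[R] S) (x : X2) :
    (G.ρR hk).lTensor S (G.b2 hk t x) = G.b3 hk (q2 R S t) (G.e2 x) := by
  refine G.univ2.induction (fun x => (G.ρR hk).lTensor S (G.b2 hk t x) = G.b3 hk (q2 R S t) (G.e2 x)) ?_
    (fun w m => ?_) (fun x y hx hy => ?_) x
  · rw [map_zero, map_zero, map_zero, map_zero]
  · rw [G.e2_smul, G.b3_balanced hk, G.e2_o2, G.b2_spec, gk_map, ← map_mul (q2 R S)]
    induction (t * gk p n (S ⊗[R] S) k w) using TensorProduct.induction_on with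
    | zero => rw [map_zero, map_zero, map_zero, map_zero, AddMonoidHom.zero_apply]
    | tmul a c => rw [Φ_tmul, LinearMap.lTensor_tmul, b3_q2]; rfl
    | add y z hy hz => rw [map_add, map_add, map_add, map_add, AddMonoidHom.add_apply, hy, hz]
  · rw [map_add, map_add, map_add, map_add, hx, hy]

theorem coassoc : Groth.Agent.DescLib.ModDesc.Coassoc (G.ρR hk) := by
  intro z
  induction z using TensorProduct.induction_on with
  | zero => simp only [map_zero]
  | tmul t m =>
    rw [show G.ρR hk (t ⊗ₜ[TruncatedWittVector p n S] m) = G.b2 hk (iL R S t) (G.φ m) from rfl, Λ2, Λ1,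
      G.cocycle]
    rfl
  | add y z hy hz => rw [map_add, map_add, map_add, hy, hz]

theorem counit (z : N) : LinearMap.liftBaseChange S (LinearMap.id : N →ₗ[R] N) (G.ρ hk z) = z := by
  have key : ∀ t x, LinearMap.liftBaseChange S (LinearMap.id : N →ₗ[R] N) (G.b2 hk t x) =
      (mulS R S t) ⊗ₜ[TruncatedWittVector p n S] G.η x := by
    intro t x
    refine G.univ2.induction (fun x => LinearMap.liftBaseChange S (LinearMap.id : N →ₗ[R] N) (G.b2 hk t x) =
      (mulS R S t) ⊗ₜ[TruncatedWittVector p n S] G.η x) ?_ (fun w m => ?_) (fun x y hx hy => ?_) x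
    · rw [map_zero, map_zero, map_zero, tmul_zero]
    · rw [G.η_smul, G.η_o2, G.b2_spec, ← smul_tmul, Algebra.smul_def, hk, gk_map, ← map_mul (mulS R S), mul_comm _ t]
      induction (t * gk p n (S ⊗[R] S) k w) using TensorProduct.induction_on with
      | zero => rw [map_zero, map_zero, map_zero, zero_tmul]
      | tmul a c =>
        rw [Φ_tmul, LinearMap.liftBaseChange_tmul, LinearMap.id_apply, smul_tmul', smul_eq_mul]
        show _ = (Algebra.TensorProduct.lmul' R (a ⊗ₜ[R] c)) ⊗ₜ[TruncatedWittVector p n S] m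
        rw [Algebra.TensorProduct.lmul'_apply_tmul]
      | add y z hy hz => rw [map_add, map_add, map_add, add_tmul, hy, hz]
    · rw [map_add, map_add, map_add, tmul_add, hx, hy]
  induction z using TensorProduct.induction_on with
  | zero => simp only [map_zero]
  | tmul t m =>
    rw [ρ_tmul, key, G.η_φ]
    show Algebra.TensorProduct.lmul' R (t ⊗ₜ[R] (1 : S)) ⊗ₜ[TruncatedWittVector p n S] m = _
    rw [Algebra.TensorProduct.lmul'_apply_tmul, mul_one]
  | add y z hy hz => rw [map_add, map_add, hy, hz]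

/-- The pairing on the module itself. -/
def b1 : S →+ M →+ N :=
  AddMonoidHom.mk' (fun t => AddMonoidHom.mk' (fun m => t ⊗ₜ[TruncatedWittVector p n S] m) (tmul_add t))
    fun t t' => AddMonoidHom.ext fun m => add_tmul t t' m

theorem b1_apply (t : S) (m : M) : b1 (p := p) (n := n) t m = t ⊗ₜ[TruncatedWittVector p n S] m := rfl

include hk in
theorem b1_balanced : Balanced p k (b1 (p := p) (n := n) (S := S) (M := M)) := fun t a m => by
  rw [b1_apply, b1_apply, ← smul_tmul, Algebra.smul_def, hk, mul_comm]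

include hk in
theorem exists_functional₁ (f : M →ₗ[TruncatedWittVector p n S] TruncatedWittVector p n S) :
    ∃ F : N →+ S, ∀ t m, F (b1 (p := p) (n := n) t m) = t * gk p n S k (f m) :=
  ⟨TensorProduct.liftAddHom
    (AddMonoidHom.mk' (fun t => AddMonoidHom.mk' (fun m => t * gk p n S k (f m))
        fun m m' => by rw [map_add, map_add, mul_add])
      fun t t' => AddMonoidHom.ext fun m => add_mul t t' _)
    (fun a t m => by
      show (a • t) * gk p n S k (f m) = t * gk p n S k (f (a • m))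
      rw [map_smul, smul_eq_mul, map_mul, Algebra.smul_def, hk]
      ring), fun _ _ => rfl⟩

include G hk in
theorem exists_functional₂ (f : X2 →ₗ[TruncatedWittVector p n (S ⊗[R] S)] TruncatedWittVector p n (S ⊗[R] S)) :
    ∃ F : S ⊗[R] N →+ S ⊗[R] S, ∀ t x, F (G.b2 hk t x) = t * gk p n _ k (f x) := by
  let g₀ : N →+ S ⊗[R] S := TensorProduct.liftAddHom
    (AddMonoidHom.mk' (fun t => AddMonoidHom.mk' (fun m => iR R S t * gk p n _ k (f (G.o2 m)))
        fun m m' => by rw [map_add, map_add, map_add, mul_add])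
      fun t t' => AddMonoidHom.ext fun m => by
        show iR R S (t + t') * _ = iR R S t * _ + iR R S t' * _
        rw [map_add, add_mul])
    fun a t m => by
      show iR R S (a • t) * gk p n _ k (f (G.o2 m)) = iR R S t * gk p n _ k (f (G.o2 (a • m)))
      rw [G.univ2.smul, LinearMap.map_smul f, smul_eq_mul, map_mul (gk p n (S ⊗[R] S) k), gk_map, Algebra.smul_def, hk,
        map_mul (iR R S)]
      ring
  have hg₀ : ∀ (t : S) (m : M), g₀ (t ⊗ₜ[TruncatedWittVector p n S] m) = iR R S t * gk p n _ k (f (G.o2 m)) :=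
    fun _ _ => rfl
  let F : S ⊗[R] N →+ S ⊗[R] S := TensorProduct.liftAddHom
    (AddMonoidHom.mk' (fun a => (AddMonoidHom.mulLeft (iL R S a)).comp g₀)
      fun a a' => AddMonoidHom.ext fun v => by
        show iL R S (a + a') * g₀ v = iL R S a * g₀ v + iL R S a' * g₀ v
        rw [map_add, add_mul])
    fun r a v => by
      show iL R S (r • a) * g₀ v = iL R S a * g₀ (r • v)
      induction v using TensorProduct.induction_on with
      | zero => rw [smul_zero, map_zero, mul_zero, mul_zero]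
      | tmul t m =>
        rw [smul_tmul', hg₀, hg₀, ← mul_assoc, ← mul_assoc]
        congr 1
        show ((r • a) ⊗ₜ[R] (1 : S)) * ((1 : S) ⊗ₜ[R] t) = (a ⊗ₜ[R] (1 : S)) * ((1 : S) ⊗ₜ[R] (r • t))
        rw [Algebra.TensorProduct.tmul_mul_tmul, Algebra.TensorProduct.tmul_mul_tmul, mul_one, one_mul, mul_one,
          one_mul, smul_tmul]
      | add y z hy hz => rw [smul_add, map_add, map_add, mul_add, mul_add, hy, hz]
  refine ⟨F, fun t x => ?_⟩
  refine G.univ2.induction (fun x => F (G.b2 hk t x) = t * gk p n _ k (f x)) ?_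
    (fun w m => ?_) (fun x y hx hy => ?_) x
  · rw [map_zero, map_zero, map_zero, map_zero, mul_zero]
  · rw [G.b2_spec, LinearMap.map_smul f, smul_eq_mul, map_mul (gk p n (S ⊗[R] S) k), ← mul_assoc]
    induction (t * gk p n (S ⊗[R] S) k w) using TensorProduct.induction_on with
    | zero => rw [map_zero, map_zero, zero_mul]
    | tmul a c =>
      rw [Φ_tmul]
      show iL R S a * (iR R S c * gk p n _ k (f (G.o2 m))) = _
      rw [← mul_assoc]
      congr 1
      show (a ⊗ₜ[R] (1 : S)) * ((1 : S) ⊗ₜ[R] c) = a ⊗ₜ[R] c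
      rw [Algebra.TensorProduct.tmul_mul_tmul, mul_one, one_mul]
    | add y z hy hz => rw [map_add, map_add, add_mul, hy, hz]
  · rw [map_add, map_add, map_add, map_add, mul_add, hx, hy]

section Correct

variable [Module.Projective (TruncatedWittVector p n S) M]
  [Module.Projective (TruncatedWittVector p n (S ⊗[R] S)) X2]
  [Module.Projective (TruncatedWittVector p n (S ⊗[R] (S ⊗[R] S))) X3]

theorem grMap_φ {z : M} (hz : z ∈ FilM (p := p) (n := n) (T := S) k) :
    grMap p k (G.b2 hk) (G.φ z) = G.ρR hk (grMap p k (b1 (p := p) (n := n)) z) :=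
  grMap_natural (iL R S) G.φ G.φ_smul (b1_balanced hk) (G.b2_balanced hk) (G.ρR hk).toAddMonoidHom
    (fun _ _ => rfl) hz

theorem grMap_o2 {z : M} (hz : z ∈ FilM (p := p) (n := n) (T := S) k) :
    grMap p k (G.b2 hk) (G.o2 z) = (1 : S) ⊗ₜ[R] grMap p k (b1 (p := p) (n := n)) z :=
  grMap_natural (iR R S) G.o2 G.univ2.smul (b1_balanced hk) (G.b2_balanced hk) (TensorProduct.mk R S N 1).toAddMonoidHom
    (fun t m => by
      rw [b2_o2]
      rfl) hz

theorem grMap_δ {z : M} (hz : z ∈ FilM (p := p) (n := n) (T := S) k) :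
    grMap p k (G.b2 hk) (G.δ z) = d1 (G.ρR hk) (grMap p k (b1 (p := p) (n := n)) z) := by
  rw [δ_apply, grMap_sub (map_mem_FilM (iL R S) G.φ G.φ_smul hz) (map_mem_FilM (iR R S) G.o2 G.univ2.smul hz),
    grMap_φ G hk hz, grMap_o2 G hk hz]
  rfl

include G hk in
theorem δ_mem {z : M} (hz : z ∈ FilM (p := p) (n := n) (T := S) k) :
    G.δ z ∈ FilM (p := p) (n := n) (T := S ⊗[R] S) k := by
  rw [δ_apply]
  exact sub_mem (map_mem_FilM (iL R S) G.φ G.φ_smul hz) (map_mem_FilM (iR R S) G.o2 G.univ2.smul hz)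

include hk in
theorem exists_grMap_eq (v : N) :
    ∃ z ∈ FilM (p := p) (n := n) (T := S) (X := M) k, grMap p k (b1 (p := p) (n := n)) z = v := by
  induction v using TensorProduct.induction_on with
  | zero => exact ⟨0, zero_mem _, grMap_zero⟩
  | tmul t m =>
    obtain ⟨a, ha, rfl⟩ := exists_coeff (p := p) k t
    exact ⟨a • m, Submodule.smul_mem_smul ha Submodule.mem_top, grMap_smul (b1_balanced hk) ha m⟩
  | add y z hy hz =>
    obtain ⟨a, ha, rfl⟩ := hy
    obtain ⟨b, hb, rfl⟩ := hz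
    exact ⟨a + b, add_mem ha hb, grMap_add ha hb⟩

include G hk in
/-- One step of the successive approximation of an equalized element. -/
theorem step [Module.FaithfullyFlat R S] {y : M} (hy : G.δ y ∈ FilM (p := p) (n := n) (T := S ⊗[R] S) k) :
    ∃ z ∈ FilM (p := p) (n := n) (T := S) (X := M) k,
      G.δ (y - z) ∈ FilM (p := p) (n := n) (T := S ⊗[R] S) (k + 1) := by
  have h0 := map_mem_FilM (q0 R S) G.e0 G.e0_smul hy
  have h1 := map_mem_FilM (q1 R S) G.e1 G.e1_smul hy
  have h2 := map_mem_FilM (q2 R S) G.e2 G.e2_smul hy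
  have hc : d2 (G.ρR hk) (grMap p k (G.b2 hk) (G.δ y)) = 0 := by
    have e := congrArg (grMap p k (G.b3 hk)) (G.δ_complex y)
    rw [grMap_add (sub_mem h0 h1) h2, grMap_sub h0 h1, grMap_zero,
      grMap_natural (q0 R S) G.e0 G.e0_smul (G.b2_balanced hk) (G.b3_balanced hk)
        (TensorProduct.mk R S (S ⊗[R] N) 1).toAddMonoidHom (G.Λ0 hk) hy,
      grMap_natural (q1 R S) G.e1 G.e1_smul (G.b2_balanced hk) (G.b3_balanced hk)
        ((TensorProduct.mk R S N 1).lTensor S).toAddMonoidHom (G.Λ1 hk) hy,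
      grMap_natural (q2 R S) G.e2 G.e2_smul (G.b2_balanced hk) (G.b3_balanced hk)
        ((G.ρR hk).lTensor S).toAddMonoidHom (G.Λ2 hk) hy] at e
    exact e
  obtain ⟨v, hv⟩ := exists_d1_eq (G.ρR hk) hc
  obtain ⟨z, hz, rfl⟩ := exists_grMap_eq (p := p) hk v
  refine ⟨z, hz, mem_succ_of_grMap_eq_zero (G.exists_functional₂ hk) (k := k) ?_ ?_⟩
  · rw [map_sub]; exact sub_mem hy (G.δ_mem hk hz)
  · rw [map_sub, grMap_sub hy (G.δ_mem hk hz), grMap_δ G hk hz, hv, sub_self]

end Correct

end Level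

end Glue

end Groth.Agent.WittModDesc
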