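import Groth.Agent.WittModDesc.Datum
import Groth.Agent.WittModDesc.Glue

/-!
# The elementwise gluing maps of a descent datum, and effectiveness from fixed generators
-/

universe u

set_option autoImplicit false
set_option backward.isDefEq.respectTransparency false
set_option backward.isDefEq.respectTransparency.types false

open CategoryTheory Opposite

noncomputable section

namespace Groth.Agent.WittModDesc

open Groth.Agent.DescLib.ModDesc (ES tm one one_add one_zero one_smul' tm_eq tm_add_left smul_tm es_induction es_hom_ext es_map_tm liftAdd)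
open Groth.Agent.S16223 (op' genHom genInv gen_one genInv_one genHom_genInv es_map_one compApp compAppInv)

section Abs

variable {A B : CommRingCat.{u}ᵒᵖ}

/-- The canonical map to an extension of scalars, as an additive map. -/
def oneHom (f : B ⟶ A) (M : ModuleCat.{u} A.unop) : M →+ (ES f).obj M :=
  AddMonoidHom.mk' (one f M) (one_add f M)

lemma universal_one (f : B ⟶ A) (M : ModuleCat.{u} A.unop) :
    Universal (M := M) (X := (ES f).obj M) f.unop.hom (oneHom f M) where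
  smul a m := one_smul' f M a m
  induction P h0 h1 h2 x := es_induction (P := P) h0 (fun y m => by rw [tm_eq]; exact h1 y m) h2 x
  lift V _ β h := ⟨liftAdd β h, fun b m => by
    show liftAdd β h (b • tm f M 1 m) = β b m
    rw [← tm_eq]
    rfl⟩

/-- The action, on an extension of scalars along a map acting as the identity. -/
def evalId {f : A ⟶ A} (hf : ∀ x, f.unop x = x) (M : ModuleCat.{u} A.unop) : (ES f).obj M →+ M :=
  liftAdd (AddMonoidHom.mk' (fun y => AddMonoidHom.mk' (fun m : M => y • m) (smul_add y))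
      fun y y' => AddMonoidHom.ext fun m => add_smul y y' m)
    fun x y m => by
      show (f.unop x * y) • m = y • x • m
      rw [hf, mul_comm, mul_smul]

lemma evalId_smul {f : A ⟶ A} (hf : ∀ x, f.unop x = x) (M : ModuleCat.{u} A.unop) (a : A.unop)
    (z : (ES f).obj M) : evalId hf M (a • z) = a • evalId hf M z := by
  induction z using es_induction with
  | h0 => rw [smul_zero, map_zero, smul_zero]
  | h1 y m => rw [smul_tm]; exact mul_smul a y m
  | h2 x y hx hy => rw [smul_add, map_add, map_add, smul_add, hx, hy]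

lemma evalId_one {f : A ⟶ A} (hf : ∀ x, f.unop x = x) (M : ModuleCat.{u} A.unop) (m : M) :
    evalId hf M (one f M m) = m := one_smul A.unop m

lemma smul_hom {M N : ModuleCat.{u} A.unop} (k : M ⟶ N) (a : A.unop) (m : M) : k (a • m) = a • k m :=
  map_smul k.hom a m

lemma comm_abs {P Q U : CommRingCat.{u}ᵒᵖ} {f : Q ⟶ P} {g₁ g₂ : U ⟶ Q} {h : U ⟶ P}
    {Mc : ModuleCat.{u} P.unop} {N : ModuleCat.{u} Q.unop} (a : (ES f).obj Mc ⟶ N)
    (i₁ : (ES h).obj Mc ⟶ (ES g₁).obj ((ES f).obj Mc)) (j₁ : (ES g₁).obj ((ES f).obj Mc) ⟶ (ES h).obj Mc)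
    (hij : i₁ ≫ j₁ = 𝟙 _) (hji : j₁ ≫ i₁ = 𝟙 _)
    (i₂ : (ES h).obj Mc ⟶ (ES g₂).obj ((ES f).obj Mc))
    (h₁ : ∀ m, i₁ (one h Mc m) = one g₁ _ (one f Mc m)) (h₂ : ∀ m, i₂ (one h Mc m) = one g₂ _ (one f Mc m))
    (k : (ES g₁).obj N ⟶ (ES g₂).obj N)
    (hk : ∀ m, k (one g₁ N (a (one f Mc m))) = one g₂ N (a (one f Mc m))) :
    (ES g₁).map a ≫ k = (j₁ ≫ i₂) ≫ (ES g₂).map a := by
  haveI : IsIso i₁ := ⟨j₁, hij, hji⟩
  rw [← cancel_epi i₁, ← Category.assoc i₁ (j₁ ≫ i₂), ← Category.assoc i₁ j₁, hij, Category.id_comp]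
  refine es_hom_ext fun m => ?_
  rw [CategoryTheory.comp_apply, CategoryTheory.comp_apply, CategoryTheory.comp_apply, h₁, h₂, es_map_tm,
    es_map_tm]
  exact hk m

end Abs

lemma compApp_inv' {C D : Type*} [Category C] [Category D] (F : C ⥤ D)
    (G : Pseudofunctor (LocallyDiscrete D) Cat.{u, u + 1}) {X Y Z : C} (f : X ⟶ Y) (g : Y ⟶ Z) {h : X ⟶ Z}
    (e : f ≫ g = h) (M : G.obj ⟨F.obj X⟩) :
    compAppInv F G f g e M ≫ compApp F G f g e M = 𝟙 _ := Cat.Hom.inv_hom_id_toNatTrans_app _ _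

lemma isoG {C : Type*} [Category C] {D : Type*} [Category D] (F : Cᵒᵖ ⥤ D)
    (G : Pseudofunctor (LocallyDiscrete D) Cat.{u, u + 1}) {X Y : C} {q : Y ⟶ X}
    (E : (F.toPseudofunctor.comp G).DescentData (fun _ : PUnit.{u + 1} => q)) (Mc : G.obj ⟨F.obj (op X)⟩)
    (eh : (G.map (F.map q.op).toLoc).toFunctor.obj Mc ≅ E.obj PUnit.unit)
    (comm : ∀ {T : C} (f₁ f₂ : T ⟶ Y) (e : f₁ ≫ q = f₂ ≫ q),
      (G.map (F.map f₁.op).toLoc).toFunctor.map eh.hom ≫
          E.hom (i₁ := PUnit.unit) (i₂ := PUnit.unit) (f₂ ≫ q) f₁ f₂ e rfl =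
        (compAppInv F G q.op f₁.op (h := (f₂ ≫ q).op) (congrArg Quiver.Hom.op e) Mc ≫
          compApp F G q.op f₂.op (h := (f₂ ≫ q).op) rfl Mc) ≫
          (G.map (F.map f₂.op).toLoc).toFunctor.map eh.hom) :
    Nonempty (((F.toPseudofunctor.comp G).toDescentData (fun _ : PUnit.{u + 1} => q)).obj Mc ≅ E) :=
  ⟨Pseudofunctor.DescentData.isoMk (fun _ => eh) fun T s i₁ i₂ f₁ f₂ hf₁ hf₂ => by
    cases i₁; cases i₂
    subst hf₂
    exact comm f₁ f₂ hf₁⟩

section Datum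

variable {C : Type*} [Category C] {F : Cᵒᵖ ⥤ CommRingCat.{u}} {X Y : C} {q : Y ⟶ X}
  (D : (F.toPseudofunctor.comp CommRingCat.moduleCatExtendScalarsPseudofunctor.{u}).DescentData (fun _ : PUnit.{u + 1} => q))
  {Y2 Y3 : C} {l r : Y2 ⟶ Y} (w : l ≫ q = r ≫ q)

/-- The gluing on `1 ⊗ m`. -/
def phiD : wcarrier D →+ (ES (op' (F.map r.op))).obj (wcarrier D) :=
  (whomM D l r w).hom.toAddMonoidHom.comp (oneHom (op' (F.map l.op)) (wcarrier D))

lemma phiD_smul (a : F.obj (op Y)) (m : wcarrier D) :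
    phiD D w (a • m) = (op' (F.map l.op)).unop a • phiD D w m := by
  show whomM D l r w (one (op' (F.map l.op)) (wcarrier D) (a • m)) =
    (op' (F.map l.op)).unop a • whomM D l r w (one (op' (F.map l.op)) (wcarrier D) m)
  rw [one_smul']
  exact smul_hom (A := op (F.obj (op Y2))) (whomM D l r w) _ _

variable (r) in
/-- Change of rings along a map to the double product. -/
def bcD (g : Y3 ⟶ Y2) {h : Y3 ⟶ Y} (e : g ≫ r = h) :
    (ES (op' (F.map r.op))).obj (wcarrier D) →+ (ES (op' (F.map h.op))).obj (wcarrier D) :=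
  wbHom (genInv F r.op g.op (congrArg Quiver.Hom.op e) (wcarrier D))

lemma bcD_smul (g : Y3 ⟶ Y2) {h : Y3 ⟶ Y} (e : g ≫ r = h) (b : F.obj (op Y2))
    (z : (ES (op' (F.map r.op))).obj (wcarrier D)) :
    bcD D r g e (b • z) = (op' (F.map g.op)).unop b • bcD D r g e z :=
  wb_smul (P := op (F.obj (op Y))) (Q := op (F.obj (op Y2))) (S := op (F.obj (op Y3)))
    (f := op' (F.map r.op)) (g := op' (F.map g.op)) (h := op' (F.map h.op)) (M := wcarrier D)
    (genInv F r.op g.op (congrArg Quiver.Hom.op e) (wcarrier D)) b z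

lemma bcD_one (g : Y3 ⟶ Y2) {h : Y3 ⟶ Y} (e : g ≫ r = h) (m : wcarrier D) :
    bcD D r g e (one (op' (F.map r.op)) (wcarrier D) m) = one (op' (F.map h.op)) (wcarrier D) m :=
  genInv_one F r.op g.op (congrArg Quiver.Hom.op e) (wcarrier D) m

variable (g12 g13 g23 : Y3 ⟶ Y2) (e23 : g23 ≫ l = g12 ≫ r) (e13l : g13 ≫ l = g12 ≫ l)
  (e13r : g13 ≫ r = g23 ≫ r)

include w e23 in
lemma w23 : (g12 ≫ r) ≫ q = (g23 ≫ r) ≫ q := by rw [← e23, Category.assoc, Category.assoc, w]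

/-- The gluing between the last two factors of the triple product. -/
def twist : (ES (op' (F.map r.op))).obj (wcarrier D) →+ (ES (op' (F.map (g23 ≫ r).op))).obj (wcarrier D) :=
  (whomM D (g12 ≫ r) (g23 ≫ r) (w23 w g12 g23 e23)).hom.toAddMonoidHom.comp (bcD D r g12 rfl)

lemma twist_smul (b : F.obj (op Y2)) (z : (ES (op' (F.map r.op))).obj (wcarrier D)) :
    twist D w g12 g23 e23 (b • z) = (op' (F.map g12.op)).unop b • twist D w g12 g23 e23 z := by
  show whomM D (g12 ≫ r) (g23 ≫ r) (w23 w g12 g23 e23) (bcD D r g12 rfl (b • z)) =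
    (op' (F.map g12.op)).unop b • whomM D (g12 ≫ r) (g23 ≫ r) (w23 w g12 g23 e23) (bcD D r g12 rfl z)
  rw [bcD_smul]
  exact smul_hom (A := op (F.obj (op Y3))) (whomM D (g12 ≫ r) (g23 ≫ r) (w23 w g12 g23 e23)) _ _

lemma twist_one (m : wcarrier D) :
    twist D w g12 g23 e23 (one (op' (F.map r.op)) (wcarrier D) m) = bcD D r g23 rfl (phiD D w m) := by
  show whomM D (g12 ≫ r) (g23 ≫ r) (w23 w g12 g23 e23) (bcD D r g12 rfl (one (op' (F.map r.op)) (wcarrier D) m)) = _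
  rw [bcD_one]
  exact whomM_bmap D g23 l r w (g12 ≫ r) (g23 ≫ r) e23 rfl (w23 w g12 g23 e23) m

include e13l in
lemma cocycleD (m : wcarrier D) :
    bcD D r g13 e13r (phiD D w m) = twist D w g12 g23 e23 (phiD D w m) := by
  have w12 : (g12 ≫ l) ≫ q = (g12 ≫ r) ≫ q := by rw [Category.assoc, Category.assoc, w]
  have w13 : (g12 ≫ l) ≫ q = (g23 ≫ r) ≫ q := w12.trans (w23 w g12 g23 e23)
  have h1 : whomM D (g12 ≫ l) (g23 ≫ r) w13 (one (op' (F.map (g12 ≫ l).op)) (wcarrier D) m) =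
      bcD D r g13 e13r (phiD D w m) :=
    whomM_bmap D g13 l r w (g12 ≫ l) (g23 ≫ r) e13l e13r w13 m
  have h2 : whomM D (g12 ≫ l) (g12 ≫ r) w12 (one (op' (F.map (g12 ≫ l).op)) (wcarrier D) m) =
      bcD D r g12 rfl (phiD D w m) :=
    whomM_bmap D g12 l r w (g12 ≫ l) (g12 ≫ r) rfl rfl w12 m
  have h3 := congrArg (fun k : (ES (op' (F.map (g12 ≫ l).op))).obj (wcarrier D) ⟶
      (ES (op' (F.map (g23 ≫ r).op))).obj (wcarrier D) => k (one (op' (F.map (g12 ≫ l).op)) (wcarrier D) m))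
    (whomM_comp D (g12 ≫ l) (g12 ≫ r) (g23 ≫ r) w12 (w23 w g12 g23 e23))
  rw [← h1]
  refine h3.symm.trans ?_
  show whomM D (g12 ≫ r) (g23 ≫ r) (w23 w g12 g23 e23)
      (whomM D (g12 ≫ l) (g12 ≫ r) w12 (one (op' (F.map (g12 ≫ l).op)) (wcarrier D) m)) = _
  rw [h2]
  rfl

variable (mu : Y ⟶ Y2) (ml : mu ≫ l = 𝟙 Y) (mr : mu ≫ r = 𝟙 Y)

omit [Category C] in
lemma map_id_op_apply {C : Type*} [Category C] (F : Cᵒᵖ ⥤ CommRingCat.{u}) (Y : C) (x : F.obj (op Y)) :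
    (op' (F.map (𝟙 Y).op)).unop x = x := by
  show F.map (𝟙 Y).op x = x
  rw [op_id, F.map_id]
  rfl

/-- Restriction to the diagonal. -/
def etaD : (ES (op' (F.map r.op))).obj (wcarrier D) →+ wcarrier D :=
  (evalId (map_id_op_apply F Y) (wcarrier D)).comp (bcD D r mu mr)

lemma etaD_smul (b : F.obj (op Y2)) (z : (ES (op' (F.map r.op))).obj (wcarrier D)) :
    etaD D mu mr (b • z) = (op' (F.map mu.op)).unop b • etaD D mu mr z := by
  show evalId (map_id_op_apply F Y) (wcarrier D) (bcD D r mu mr (b • z)) = _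
  rw [bcD_smul, evalId_smul]
  rfl

lemma etaD_one (m : wcarrier D) : etaD D mu mr (one (op' (F.map r.op)) (wcarrier D) m) = m := by
  show evalId (map_id_op_apply F Y) (wcarrier D) (bcD D r mu mr (one (op' (F.map r.op)) (wcarrier D) m)) = m
  rw [bcD_one]
  exact evalId_one (A := op (F.obj (op Y))) (map_id_op_apply F Y) (wcarrier D) m

include ml in
lemma etaD_phi (m : wcarrier D) : etaD D mu mr (phiD D w m) = m := by
  have h1 : whomM D (𝟙 Y) (𝟙 Y) rfl (one (op' (F.map (𝟙 Y).op)) (wcarrier D) m) = bcD D r mu mr (phiD D w m) :=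
    whomM_bmap D mu l r w (𝟙 Y) (𝟙 Y) ml mr rfl m
  show evalId (map_id_op_apply F Y) (wcarrier D) (bcD D r mu mr (phiD D w m)) = m
  rw [← h1, whomM_self]
  exact evalId_one (A := op (F.obj (op Y))) (map_id_op_apply F Y) (wcarrier D) m

lemma fixed_everywhere {T : C} (f₁ f₂ : T ⟶ Y) (e : f₁ ≫ q = f₂ ≫ q) (g : T ⟶ Y2) (h₁ : g ≫ l = f₁)
    (h₂ : g ≫ r = f₂) {m : wcarrier D}
    (hm : phiD D w m = one (op' (F.map r.op)) (wcarrier D) m) :
    whomM D f₁ f₂ e (one (op' (F.map f₁.op)) (wcarrier D) m) = one (op' (F.map f₂.op)) (wcarrier D) m := by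
  rw [whomM_bmap D g l r w f₁ f₂ h₁ h₂ e m]
  show bcD D r g h₂ (phiD D w m) = _
  rw [hm, bcD_one]

lemma comm_fixed (Mc : ModuleCat.{u} (F.obj (op X)))
    (eh : (ES (op' (F.map q.op))).obj Mc ⟶ wcarrier D) {T : C} (f₁ f₂ : T ⟶ Y) (e : f₁ ≫ q = f₂ ≫ q)
    (hfix : ∀ m : Mc,
      whomM D f₁ f₂ e (one (op' (F.map f₁.op)) (wcarrier D) (eh (one (op' (F.map q.op)) Mc m))) =
        one (op' (F.map f₂.op)) (wcarrier D) (eh (one (op' (F.map q.op)) Mc m)))
    (hinv : genInv F q.op f₁.op (h := (f₂ ≫ q).op) (congrArg Quiver.Hom.op e) Mc ≫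
      genHom F q.op f₁.op (h := (f₂ ≫ q).op) (congrArg Quiver.Hom.op e) Mc = 𝟙 _) :
    (ES (op' (F.map f₁.op))).map eh ≫ whomM D f₁ f₂ e =
      (genInv F q.op f₁.op (h := (f₂ ≫ q).op) (congrArg Quiver.Hom.op e) Mc ≫
        genHom F q.op f₂.op (h := (f₂ ≫ q).op) rfl Mc) ≫ (ES (op' (F.map f₂.op))).map eh :=
  comm_abs (P := op (F.obj (op X))) (Q := op (F.obj (op Y))) (U := op (F.obj (op T)))
    (f := op' (F.map q.op)) (g₁ := op' (F.map f₁.op)) (g₂ := op' (F.map f₂.op)) (h := op' (F.map (f₂ ≫ q).op))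
    (Mc := Mc) (N := wcarrier D) eh
    (genHom F q.op f₁.op (congrArg Quiver.Hom.op e) Mc) (genInv F q.op f₁.op (congrArg Quiver.Hom.op e) Mc)
    (genHom_genInv F q.op f₁.op (congrArg Quiver.Hom.op e) Mc) hinv
    (genHom F q.op f₂.op rfl Mc) (gen_one F q.op f₁.op (congrArg Quiver.Hom.op e) Mc)
    (gen_one F q.op f₂.op rfl Mc) (whomM D f₁ f₂ e) hfix

lemma inv_genHom {T : C} (f₁ : T ⟶ Y) {h : T ⟶ X} (e : f₁ ≫ q = h) (Mc : ModuleCat.{u} (F.obj (op X))) :
    genInv F q.op f₁.op (congrArg Quiver.Hom.op e) Mc ≫ genHom F q.op f₁.op (congrArg Quiver.Hom.op e) Mc = 𝟙 _ :=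
  compApp_inv' F CommRingCat.moduleCatExtendScalarsPseudofunctor.{u} q.op f₁.op (congrArg Quiver.Hom.op e) Mc

lemma nonempty_iso (Mc : ModuleCat.{u} (F.obj (op X)))
    (eh : (ES (op' (F.map q.op))).obj Mc ⟶ wcarrier D) [IsIso eh]
    (hfix : ∀ {T : C} (f₁ f₂ : T ⟶ Y) (e : f₁ ≫ q = f₂ ≫ q) (m : Mc),
      whomM D f₁ f₂ e (one (op' (F.map f₁.op)) (wcarrier D) (eh (one (op' (F.map q.op)) Mc m))) =
        one (op' (F.map f₂.op)) (wcarrier D) (eh (one (op' (F.map q.op)) Mc m))) :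
    Nonempty (((F.toPseudofunctor.comp CommRingCat.moduleCatExtendScalarsPseudofunctor.{u}).toDescentData
      (fun _ : PUnit.{u + 1} => q)).obj Mc ≅ D) :=
  isoG F CommRingCat.moduleCatExtendScalarsPseudofunctor.{u} D Mc (asIso eh)
    fun f₁ f₂ e => comm_fixed D Mc eh f₁ f₂ e (hfix f₁ f₂ e) (inv_genHom f₁ e Mc)

end Datum

end Groth.Agent.WittModDesc
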