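import Groth.Agent.WittProj.Basic
import Groth.Prelude.Def_WittGrp

/-!
# The graded pieces of truncated Witt vectors

For `k < n` the map `x ↦ coeff k x` is additive on the `k`-th step of the truncation filtration of
`W_n(R)` and is semilinear along the `k`-th ghost component `W_n(R) → R`.
-/

universe u

set_option autoImplicit false

noncomputable section

namespace Groth.Agent.WittModDesc

open WittVector

variable (p : ℕ) [Fact p.Prime] (n : ℕ) (R : Type u) [CommRing R]

/-- The `k`-th step of the truncation filtration of `W_n(R)`. -/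
def Fil (k : ℕ) : Ideal (TruncatedWittVector p n R) :=
  (WittProj.I p R k).map (WittVector.truncate n)

variable {p n R}

theorem mem_Fil {k : ℕ} {x : TruncatedWittVector p n R} :
    x ∈ Fil p n R k ↔ ∀ i : Fin n, (i : ℕ) < k → x.coeff i = 0 := by
  rw [Fil, Ideal.mem_map_iff_of_surjective _ (WittVector.truncate_surjective p n R)]
  constructor
  · rintro ⟨y, hy, rfl⟩ i hi
    rw [WittVector.coeff_truncate]
    exact (WittProj.mem_I_iff k y).1 hy i hi
  · intro h
    refine ⟨x.out, (WittProj.mem_I_iff k _).2 fun i hi => ?_, TruncatedWittVector.truncateFun_out x⟩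
    by_cases hin : i < n
    · exact (TruncatedWittVector.coeff_out x ⟨i, hin⟩).trans (h ⟨i, hin⟩ hi)
    · simp [TruncatedWittVector.out, hin]

theorem Fil_zero : Fil p n R 0 = ⊤ :=
  eq_top_iff.2 fun x _ => mem_Fil.2 fun i hi => absurd hi (Nat.not_lt_zero _)

theorem Fil_top : Fil p n R n = ⊥ :=
  eq_bot_iff.2 fun x hx => TruncatedWittVector.ext fun i => by
    rw [mem_Fil.1 hx i i.isLt, TruncatedWittVector.coeff_zero]

theorem Fil_anti : Antitone (Fil p n R) := fun _ _ h => Ideal.map_mono (WittProj.I_anti h)

theorem mem_Fil_succ (k : Fin n) {x : TruncatedWittVector p n R} (h : x ∈ Fil p n R k) (h' : x.coeff k = 0) :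
    x ∈ Fil p n R (k + 1) :=
  mem_Fil.2 fun i hi => (Nat.lt_succ_iff_lt_or_eq.1 hi).elim (mem_Fil.1 h i) fun e => (Fin.ext e : i = k) ▸ h'

theorem coeff_zero_of_mem_Fil_succ (k : Fin n) {x : TruncatedWittVector p n R} (h : x ∈ Fil p n R (k + 1)) :
    x.coeff k = 0 :=
  mem_Fil.1 h k (Nat.lt_succ_self _)

theorem exists_lift_Fil {k : ℕ} {x : TruncatedWittVector p n R} (hx : x ∈ Fil p n R k) :
    ∃ y ∈ WittProj.I p R k, WittVector.truncate n y = x :=
  (Ideal.mem_map_iff_of_surjective _ (WittVector.truncate_surjective p n R)).1 hx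

theorem coeff_add (k : Fin n) {x y : TruncatedWittVector p n R} (hx : x ∈ Fil p n R k) (hy : y ∈ Fil p n R k) :
    (x + y).coeff k = x.coeff k + y.coeff k := by
  obtain ⟨a, ha, rfl⟩ := exists_lift_Fil hx
  obtain ⟨b, hb, rfl⟩ := exists_lift_Fil hy
  rw [← map_add, WittVector.coeff_truncate, WittVector.coeff_truncate, WittVector.coeff_truncate,
    WittProj.coeff_add_eq ha hb]

theorem coeff_zero_apply (k : Fin n) : (0 : TruncatedWittVector p n R).coeff k = 0 :=
  TruncatedWittVector.coeff_zero p n R k

theorem coeff_zero_frobenius_iterate (w : WittVector p R) (k : ℕ) :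
    ((WittVector.frobenius)^[k] w).coeff 0 = WittVector.ghostComponent k w := by
  have h : ∀ j, WittVector.ghostComponent j ((WittVector.frobenius)^[k] w) =
      WittVector.ghostComponent (j + k) w := by
    induction k generalizing w with
    | zero => intro j; rfl
    | succ k ih =>
      intro j
      rw [Function.iterate_succ_apply, ih, WittVector.ghostComponent_frobenius]
      congr 1
  have h0 := h 0
  rw [Nat.zero_add] at h0
  rw [← h0, WittVector.ghostComponent_apply, wittPolynomial_zero, MvPolynomial.aeval_X]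

theorem ghostComponent_eq_zero {k : ℕ} (hk : k < n) {y : WittVector p R} (hy : y ∈ WittProj.I p R n) :
    WittVector.ghostComponent k y = 0 := by
  rw [WittVector.ghostComponent_apply, wittPolynomial_eq_sum_C_mul_X_pow, map_sum]
  refine Finset.sum_eq_zero fun i hi => ?_
  have hp : 0 < p ^ (k - i) := pow_pos (Fact.out : p.Prime).pos _
  simp only [map_mul, map_pow, MvPolynomial.aeval_X]
  rw [(WittProj.mem_I_iff n y).1 hy i (by simp only [Finset.mem_range] at hi; omega), zero_pow hp.ne', mul_zero]

variable (p n R) in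
/-- The `k`-th ghost component on `W_n(R)`. -/
def gk (k : Fin n) : TruncatedWittVector p n R →+* R :=
  RingHom.liftOfSurjective (WittVector.truncate (p := p) (R := R) n) (WittVector.truncate_surjective p n R)
    ⟨WittVector.ghostComponent (k : ℕ), fun _ hy => ghostComponent_eq_zero k.isLt hy⟩

theorem gk_truncate (k : Fin n) (y : WittVector p R) :
    gk p n R k (WittVector.truncate n y) = WittVector.ghostComponent (k : ℕ) y :=
  RingHom.liftOfRightInverse_comp_apply _ _ _ _ y

theorem coeff_mul (k : Fin n) (w : TruncatedWittVector p n R) {x : TruncatedWittVector p n R}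
    (hx : x ∈ Fil p n R k) : (w * x).coeff k = gk p n R k w * x.coeff k := by
  obtain ⟨b, hb, rfl⟩ := exists_lift_Fil hx
  obtain ⟨a, rfl⟩ := WittVector.truncate_surjective p n R w
  obtain ⟨b', rfl, hb'⟩ := WittProj.exists_eq_iterate hb
  rw [← map_mul, WittVector.coeff_truncate, WittVector.coeff_truncate, gk_truncate, ← hb', mul_comm a,
    WittVector.iterate_verschiebung_mul_left, WittProj.iterate_coeff, ← coeff_zero_frobenius_iterate]
  show WittVector.constantCoeff (b' * (WittVector.frobenius)^[(k : ℕ)] a) = _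
  rw [map_mul, mul_comm]
  rfl

theorem gk_zero_apply (k : Fin n) (hk : (k : ℕ) = 0) (x : TruncatedWittVector p n R) :
    gk p n R k x = x.coeff k := by
  obtain ⟨y, rfl⟩ := WittVector.truncate_surjective p n R x
  rw [gk_truncate, WittVector.coeff_truncate, hk, WittVector.ghostComponent_apply, wittPolynomial_zero,
    MvPolynomial.aeval_X]

theorem exists_coeff (k : Fin n) (r : R) : ∃ x ∈ Fil p n R k, x.coeff k = r :=
  ⟨TruncatedWittVector.mk p (fun i => if i = k then r else 0), mem_Fil.2 fun i hi => by
    rw [TruncatedWittVector.coeff_mk, if_neg (fun e : i = k => by rw [e] at hi; exact lt_irrefl _ hi)], by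
    rw [TruncatedWittVector.coeff_mk, if_pos rfl]⟩

section Map

variable {S : Type u} [CommRing S] (f : R →+* S)

theorem map_mem_Fil {k : ℕ} {x : TruncatedWittVector p n R} (hx : x ∈ Fil p n R k) :
    WittGrp.truncMap p n f x ∈ Fil p n S k :=
  mem_Fil.2 fun i hi => by rw [WittGrp.coeff_truncMap, mem_Fil.1 hx i hi, map_zero]

theorem gk_map (k : Fin n) (x : TruncatedWittVector p n R) :
    gk p n S k (WittGrp.truncMap p n f x) = f (gk p n R k x) := by
  obtain ⟨y, rfl⟩ := WittVector.truncate_surjective p n R x
  rw [WittGrp.truncMap_truncate, gk_truncate, gk_truncate, WittVector.ghostComponent_apply,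
    WittVector.ghostComponent_apply, wittPolynomial_eq_sum_C_mul_X_pow]
  simp only [map_sum, map_mul, map_pow, MvPolynomial.aeval_X, MvPolynomial.aeval_C, WittVector.map_coeff]
  simp

end Map

theorem isNilpotent_coeff_zero (hp : IsNilpotent (p : R)) {x : TruncatedWittVector p n R}
    (hx : x ∈ Fil p n R 1) : IsNilpotent x := by
  obtain ⟨y, hy, rfl⟩ := exists_lift_Fil hx
  obtain ⟨e, he⟩ := WittProj.exists_pow_mem (R := R) hp (x := y)
    (by rw [(WittProj.mem_I_iff 1 y).1 hy 0 Nat.zero_lt_one]; exact IsNilpotent.zero) n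
  exact ⟨e, by rw [← map_pow]; exact he⟩

end Groth.Agent.WittModDesc
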