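import Groth.Agent.S16223

/-!
# Evaluating descent data of modules over a functor of rings on elements
-/

universe u

set_option autoImplicit false
set_option backward.isDefEq.respectTransparency false
set_option backward.isDefEq.respectTransparency.types false

open CategoryTheory Opposite

noncomputable section

namespace Groth.Agent.WittModDesc

open Groth.Agent.DescLib.ModDesc (ES tm one one_add one_zero one_smul' tm_eq smul_tm es_induction es_hom_ext es_map_tm)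
open Groth.Agent.S16223 (op' genHom genInv gen_one genInv_one genHom_genInv es_map_one)

section Abs

variable {P Q S : CommRingCat.{u}ᵒᵖ} {f : Q ⟶ P} {g : S ⟶ Q} {h : S ⟶ P} {M : ModuleCat.{u} P.unop}
  (k : (ES g).obj ((ES f).obj M) ⟶ (ES h).obj M)

/-- Change of rings on elements. -/
def wb (z : (ES f).obj M) : (ES h).obj M := k (one g _ z)

lemma wb_add (z w : (ES f).obj M) : wb k (z + w) = wb k z + wb k w := by
  show k (one g _ (z + w)) = k (one g _ z) + k (one g _ w)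
  rw [one_add, map_add]

lemma wb_smul (y : Q.unop) (z : (ES f).obj M) : wb k (y • z) = g.unop y • wb k z := by
  show k (one g _ (y • z)) = g.unop y • k (one g _ z)
  rw [one_smul', map_smul]

lemma wb_one (hk : ∀ m, k (one g _ (one f M m)) = one h M m) (m : M) : wb k (one f M m) = one h M m := hk m

lemma wb_tm (hk : ∀ m, k (one g _ (one f M m)) = one h M m) (y : Q.unop) (m : M) :
    wb k (tm f M y m) = g.unop y • one h M m := by
  rw [tm_eq, wb_smul]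
  exact congrArg (g.unop y • ·) (hk m)

/-- Change of rings on elements, as an additive map. -/
def wbHom : (ES f).obj M →+ (ES h).obj M := AddMonoidHom.mk' (wb k) (wb_add k)

lemma conj_apply {P' : CommRingCat.{u}ᵒᵖ} {f' : Q ⟶ P'} {h' : S ⟶ P'} {M' : ModuleCat.{u} P'.unop}
    (i : (ES h').obj M' ⟶ (ES g).obj ((ES f').obj M')) (a : (ES f').obj M' ⟶ (ES f).obj M) (m : M')
    (hi : i (one h' M' m) = one g _ (one f' M' m)) :
    (i ≫ (ES g).map a ≫ k) (one h' M' m) = wb k (a (one f' M' m)) := by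
  rw [CategoryTheory.comp_apply, CategoryTheory.comp_apply, hi, es_map_tm]
  rfl

end Abs

open Groth.Agent.S16223 (compApp compAppInv)

lemma hom_pullG {C : Type*} [Category C] {D : Type*} [Category D] (F : Cᵒᵖ ⥤ D)
    (G : Pseudofunctor (LocallyDiscrete D) Cat.{u, u + 1}) {X Y T T' : C} {q : Y ⟶ X}
    (E : (F.toPseudofunctor.comp G).DescentData (fun _ : PUnit.{u + 1} => q))
    (g : T' ⟶ T) (f₁ f₂ : T ⟶ Y) (e : f₁ ≫ q = f₂ ≫ q) (gf₁ gf₂ : T' ⟶ Y)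
    (h₁ : g ≫ f₁ = gf₁) (h₂ : g ≫ f₂ = gf₂) (e' : gf₁ ≫ q = gf₂ ≫ q) :
    compApp F G f₁.op g.op (congrArg Quiver.Hom.op h₁) (E.obj PUnit.unit) ≫
        (G.map (F.map g.op).toLoc).toFunctor.map
          (E.hom (i₁ := PUnit.unit) (i₂ := PUnit.unit) (f₂ ≫ q) f₁ f₂ e rfl) ≫
        compAppInv F G f₂.op g.op (congrArg Quiver.Hom.op h₂) (E.obj PUnit.unit) =
      E.hom (i₁ := PUnit.unit) (i₂ := PUnit.unit) (gf₂ ≫ q) gf₁ gf₂ e' rfl :=
  E.pullHom_hom (i₁ := PUnit.unit) (i₂ := PUnit.unit) g (f₂ ≫ q) (gf₂ ≫ q)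
    (by rw [← h₂, Category.assoc]) f₁ f₂ e rfl gf₁ gf₂ h₁ h₂

section Datum

variable {C : Type*} [Category C] {F : Cᵒᵖ ⥤ CommRingCat.{u}} {X Y T T' : C} {q : Y ⟶ X}
  (D : (F.toPseudofunctor.comp CommRingCat.moduleCatExtendScalarsPseudofunctor.{u}).DescentData (fun _ : PUnit.{u + 1} => q))

/-- The module of a descent datum. -/
abbrev wcarrier : ModuleCat.{u} (F.obj (op Y)) := D.obj PUnit.unit

/-- The gluing morphism of a descent datum. -/
def whomM (f₁ f₂ : T ⟶ Y) (e : f₁ ≫ q = f₂ ≫ q) :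
    (ES (op' (F.map f₁.op))).obj (wcarrier D) ⟶ (ES (op' (F.map f₂.op))).obj (wcarrier D) :=
  D.hom (i₁ := PUnit.unit) (i₂ := PUnit.unit) (f₂ ≫ q) f₁ f₂ e rfl

lemma whomM_self (f₁ : T ⟶ Y) : whomM D f₁ f₁ rfl = 𝟙 _ :=
  D.hom_self (i := PUnit.unit) (f₁ ≫ q) f₁ rfl

lemma whomM_comp (f₁ f₂ f₃ : T ⟶ Y) (e : f₁ ≫ q = f₂ ≫ q) (e' : f₂ ≫ q = f₃ ≫ q) :
    whomM D f₁ f₂ e ≫ whomM D f₂ f₃ e' = whomM D f₁ f₃ (e.trans e') := by
  have h : whomM D f₁ f₂ e = D.hom (i₁ := PUnit.unit) (i₂ := PUnit.unit) (f₃ ≫ q) f₁ f₂ (e.trans e') e' := by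
    simp only [whomM, e']
  rw [h]
  exact D.hom_comp (f₃ ≫ q) f₁ f₂ f₃ _ _ _

lemma whomM_pull (g : T' ⟶ T) (f₁ f₂ : T ⟶ Y) (e : f₁ ≫ q = f₂ ≫ q) (gf₁ gf₂ : T' ⟶ Y)
    (h₁ : g ≫ f₁ = gf₁) (h₂ : g ≫ f₂ = gf₂) (e' : gf₁ ≫ q = gf₂ ≫ q) :
    whomM D gf₁ gf₂ e' =
      genHom F f₁.op g.op (congrArg Quiver.Hom.op h₁) (wcarrier D) ≫
        (ES (op' (F.map g.op))).map (whomM D f₁ f₂ e) ≫
          genInv F f₂.op g.op (congrArg Quiver.Hom.op h₂) (wcarrier D) :=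
  (hom_pullG F CommRingCat.moduleCatExtendScalarsPseudofunctor.{u} D g f₁ f₂ e gf₁ gf₂ h₁ h₂ e').symm

lemma whomM_bmap (g : T' ⟶ T) (f₁ f₂ : T ⟶ Y) (e : f₁ ≫ q = f₂ ≫ q) (gf₁ gf₂ : T' ⟶ Y)
    (h₁ : g ≫ f₁ = gf₁) (h₂ : g ≫ f₂ = gf₂) (e' : gf₁ ≫ q = gf₂ ≫ q) (m : wcarrier D) :
    whomM D gf₁ gf₂ e' (one (op' (F.map gf₁.op)) (wcarrier D) m) =
      wb (genInv F f₂.op g.op (congrArg Quiver.Hom.op h₂) (wcarrier D))
        (whomM D f₁ f₂ e (one (op' (F.map f₁.op)) (wcarrier D) m)) :=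
  (congrArg (fun k : (ES (op' (F.map gf₁.op))).obj (wcarrier D) ⟶ (ES (op' (F.map gf₂.op))).obj (wcarrier D) =>
    k (one (op' (F.map gf₁.op)) (wcarrier D) m)) (whomM_pull D g f₁ f₂ e gf₁ gf₂ h₁ h₂ e')).trans
    (conj_apply (P := op (F.obj (op Y))) (Q := op (F.obj (op T))) (S := op (F.obj (op T'))) (P' := op (F.obj (op Y)))
      (f := op' (F.map f₂.op)) (g := op' (F.map g.op)) (h := op' (F.map gf₂.op))
      (f' := op' (F.map f₁.op)) (h' := op' (F.map gf₁.op)) (M := wcarrier D) (M' := wcarrier D)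
      (genInv F f₂.op g.op (congrArg Quiver.Hom.op h₂) (wcarrier D))
      (genHom F f₁.op g.op (congrArg Quiver.Hom.op h₁) (wcarrier D)) (whomM D f₁ f₂ e) m
      (gen_one F f₁.op g.op (congrArg Quiver.Hom.op h₁) (wcarrier D) m))

end Datum

end Groth.Agent.WittModDesc
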