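import Groth.Agent.WittModDesc.Coef

/-!
# The graded pieces of a projective module over truncated Witt vectors

A pairing `b : T × X → V` balanced along the `k`-th ghost component induces an additive map on
`Fil^k X` killing `Fil^{k+1} X`; it is injective modulo `Fil^{k+1} X` when enough functionals exist.
-/

universe u

set_option autoImplicit false

noncomputable section

namespace Groth.Agent.WittModDesc

variable {p : ℕ} [Fact p.Prime] {n : ℕ} {T : Type u} [CommRing T]
  {X : Type u} [AddCommGroup X] [Module (TruncatedWittVector p n T) X]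
  [Module.Projective (TruncatedWittVector p n T) X]
  {V : Type u} [AddCommGroup V]

/-- A pairing balanced along the `k`-th ghost component. -/
def Balanced (p : ℕ) [Fact p.Prime] [Module (TruncatedWittVector p n T) X] (k : Fin n)
    (b : T →+ X →+ V) : Prop :=
  ∀ (t : T) (a : TruncatedWittVector p n T) (x : X), b t (a • x) = b (t * gk p n T k a) x

variable (p n T X) in
/-- The coordinates of a presentation of a projective module as a direct summand of a free one. -/
def coord : X →ₗ[TruncatedWittVector p n T] (X →₀ TruncatedWittVector p n T) :=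
  (Module.projective_def'.1 (inferInstance : Module.Projective (TruncatedWittVector p n T) X)).choose

theorem sum_coord (x : X) : ((coord p n T X x).sum fun i a => a • i) = x := by
  have h := LinearMap.congr_fun
    (Module.projective_def'.1 (inferInstance : Module.Projective (TruncatedWittVector p n T) X)).choose_spec x
  exact h

/-- The `k`-th step of the filtration on a module. -/
abbrev FilM (k : ℕ) : Submodule (TruncatedWittVector p n T) X :=
  Fil p n T k • (⊤ : Submodule (TruncatedWittVector p n T) X)

theorem coord_mem {k : ℕ} {z : X} (hz : z ∈ FilM (p := p) (n := n) (T := T) k) (i : X) :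
    coord p n T X z i ∈ Fil p n T k := by
  refine Submodule.smul_induction_on hz (fun a ha x _ => ?_) fun y y' hy hy' => ?_
  · rw [map_smul, Finsupp.smul_apply, smul_eq_mul]
    exact Ideal.mul_mem_right _ _ ha
  · rw [map_add, Finsupp.add_apply]
    exact add_mem hy hy'

theorem mem_FilM_of_coord {k : ℕ} {z : X} (h : ∀ i, coord p n T X z i ∈ Fil p n T k) :
    z ∈ FilM (p := p) (n := n) (T := T) k := by
  rw [← sum_coord (p := p) (n := n) (T := T) z]
  exact Submodule.sum_mem _ fun i _ => Submodule.smul_mem_smul (h i) Submodule.mem_top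

/-- The map induced on the `k`-th graded piece. -/
def grMap (p : ℕ) [Fact p.Prime] [Module (TruncatedWittVector p n T) X]
    [Module.Projective (TruncatedWittVector p n T) X] (k : Fin n) (b : T →+ X →+ V) (z : X) : V :=
  (coord p n T X z).sum fun i a => b (a.coeff k) i

variable {k : Fin n} {b : T →+ X →+ V}

theorem grMap_eq_sum (z : X) {s : Finset X} (hs : (coord p n T X z).support ⊆ s) :
    grMap p k b z = ∑ i ∈ s, b ((coord p n T X z i).coeff k) i :=
  Finsupp.sum_of_support_subset _ hs _ fun i _ => by
    show b ((0 : TruncatedWittVector p n T).coeff k) i = 0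
    rw [coeff_zero_apply, map_zero]
    rfl

theorem grMap_add {z w : X} (hz : z ∈ FilM (p := p) (n := n) (T := T) k) (hw : w ∈ FilM (p := p) (n := n) (T := T) k) :
    grMap p k b (z + w) = grMap p k b z + grMap p k b w := by
  classical
  let s := (coord p n T X z).support ∪ (coord p n T X w).support
  rw [grMap_eq_sum (k := k) (b := b) (z + w) (s := s) (by rw [map_add]; exact Finsupp.support_add),
    grMap_eq_sum (k := k) (b := b) z (s := s) Finset.subset_union_left,
    grMap_eq_sum (k := k) (b := b) w (s := s) Finset.subset_union_right, ← Finset.sum_add_distrib]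
  refine Finset.sum_congr rfl fun i _ => ?_
  rw [map_add, Finsupp.add_apply, coeff_add k (coord_mem hz i) (coord_mem hw i), map_add]
  rfl

theorem grMap_smul (hb : Balanced p k b) {a : TruncatedWittVector p n T} (ha : a ∈ Fil p n T k) (x : X) :
    grMap p k b (a • x) = b (a.coeff k) x := by
  classical
  conv_rhs => rw [← sum_coord (p := p) (n := n) (T := T) x, Finsupp.sum, map_sum]
  rw [grMap_eq_sum (k := k) (b := b) (a • x) (s := (coord p n T X x).support)
    (by rw [map_smul]; exact Finsupp.support_smul)]
  refine Finset.sum_congr rfl fun i _ => ?_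
  rw [map_smul, Finsupp.smul_apply, smul_eq_mul, mul_comm a, coeff_mul k _ ha, hb, mul_comm]

theorem grMap_zero : grMap p k b (0 : X) = 0 := by
  rw [grMap, map_zero, Finsupp.sum_zero_index]

theorem grMap_sub {z w : X} (hz : z ∈ FilM (p := p) (n := n) (T := T) k) (hw : w ∈ FilM (p := p) (n := n) (T := T) k) :
    grMap p k b (z - w) = grMap p k b z - grMap p k b w := by
  have h := grMap_add (b := b) (sub_mem hz hw) hw
  rw [sub_add_cancel] at h
  rw [h, add_sub_cancel_right]

theorem grMap_of_mem_succ {z : X} (hz : z ∈ FilM (p := p) (n := n) (T := T) (k + 1)) : grMap p k b z = 0 := by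
  rw [grMap]
  refine Finset.sum_eq_zero fun i _ => ?_
  show b ((coord p n T X z i).coeff k) i = 0
  rw [coeff_zero_of_mem_Fil_succ k (coord_mem hz i), map_zero]
  rfl

/-- Injectivity modulo the next step, given enough functionals. -/
theorem mem_succ_of_grMap_eq_zero
    (hF : ∀ f : X →ₗ[TruncatedWittVector p n T] TruncatedWittVector p n T,
      ∃ F : V →+ T, ∀ t x, F (b t x) = t * gk p n T k (f x))
    {z : X} (hz : z ∈ FilM (p := p) (n := n) (T := T) k) (h : grMap p k b z = 0) :
    z ∈ FilM (p := p) (n := n) (T := T) (k + 1) := by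
  classical
  refine mem_FilM_of_coord fun j => mem_Fil_succ k (coord_mem hz j) ?_
  let fj : X →ₗ[TruncatedWittVector p n T] TruncatedWittVector p n T := (Finsupp.lapply j).comp (coord p n T X)
  obtain ⟨F, hF⟩ := hF fj
  have key : ∀ y ∈ FilM (p := p) (n := n) (T := T) (X := X) k,
      (fj y).coeff k = F (grMap p k b y) := by
    intro y hy
    suffices hh : ∀ s : Finset X, (∑ i ∈ s, fj (coord p n T X y i • i)) ∈ Fil p n T k ∧
        (∑ i ∈ s, fj (coord p n T X y i • i)).coeff k = ∑ i ∈ s, F (b ((coord p n T X y i).coeff k) i) by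
      rw [grMap, Finsupp.sum, map_sum]
      conv_lhs => rw [← sum_coord (p := p) (n := n) (T := T) y, Finsupp.sum, map_sum]
      exact (hh _).2
    intro s
    induction s using Finset.induction_on with
    | empty => simp [coeff_zero_apply]
    | insert i s hi ih =>
      rw [Finset.sum_insert hi, Finset.sum_insert hi]
      have hm : fj (coord p n T X y i • i) ∈ Fil p n T k := by
        rw [map_smul, smul_eq_mul]; exact Ideal.mul_mem_right _ _ (coord_mem hy i)
      refine ⟨add_mem hm ih.1, ?_⟩
      rw [coeff_add k hm ih.1, ih.2, hF, map_smul, smul_eq_mul, mul_comm (coord p n T X y i),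
        coeff_mul k _ (coord_mem hy i), mul_comm]
  have := key z hz
  rw [h, map_zero] at this
  exact this

section Natural

variable {T' : Type u} [CommRing T'] {Y : Type u} [AddCommGroup Y] [Module (TruncatedWittVector p n T') Y]
  [Module.Projective (TruncatedWittVector p n T') Y] {V' : Type u} [AddCommGroup V']
  {b' : T' →+ Y →+ V'} (h : T →+* T') (d : X →+ Y)

theorem map_mem_FilM (hd : ∀ a x, d (a • x) = WittGrp.truncMap p n h a • d x) {k : ℕ} {z : X}
    (hz : z ∈ FilM (p := p) (n := n) (T := T) k) : d z ∈ FilM (p := p) (n := n) (T := T') k := by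
  refine Submodule.smul_induction_on hz (fun a ha x _ => ?_) fun y y' hy hy' => ?_
  · rw [hd]
    exact Submodule.smul_mem_smul (map_mem_Fil h ha) Submodule.mem_top
  · rw [map_add]
    exact add_mem hy hy'

theorem grMap_natural (hd : ∀ a x, d (a • x) = WittGrp.truncMap p n h a • d x)
    (hb : Balanced p k b) (hb' : Balanced p k b') (Λ : V →+ V') (hΛ : ∀ t x, Λ (b t x) = b' (h t) (d x))
    {z : X} (hz : z ∈ FilM (p := p) (n := n) (T := T) k) :
    grMap p k b' (d z) = Λ (grMap p k b z) := by
  suffices hh : d z ∈ FilM (p := p) (n := n) (T := T') k ∧ grMap p k b' (d z) = Λ (grMap p k b z) from hh.2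
  suffices hh : z ∈ FilM (p := p) (n := n) (T := T) k ∧ d z ∈ FilM (p := p) (n := n) (T := T') k ∧
      grMap p k b' (d z) = Λ (grMap p k b z) from hh.2
  refine Submodule.smul_induction_on hz (fun a ha x _ => ?_) fun y y' hy hy' => ?_
  · refine ⟨Submodule.smul_mem_smul ha Submodule.mem_top, ?_, ?_⟩
    · rw [hd]; exact Submodule.smul_mem_smul (map_mem_Fil h ha) Submodule.mem_top
    · rw [hd, grMap_smul hb' (map_mem_Fil h ha), grMap_smul hb ha, hΛ, WittGrp.coeff_truncMap]
  · refine ⟨add_mem hy.1 hy'.1, ?_, ?_⟩
    · rw [map_add]; exact add_mem hy.2.1 hy'.2.1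
    · rw [map_add, grMap_add hy.2.1 hy'.2.1, grMap_add hy.1 hy'.1, map_add, hy.2.2, hy'.2.2]

end Natural

end Groth.Agent.WittModDesc
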